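import Cfsg.Agent.ConwayType.Locals.WeakClosure

/-!
The centralizer of a dodecad lies in the normalizer of the code.
-/

set_option autoImplicit false
set_option maxRecDepth 100000
set_option maxHeartbeats 1000000
set_option linter.unusedSectionVars false
set_option linter.style.haveILetI false

namespace Cfsg.Lib.ConwayType

open Subgroup Cfsg.Lib.ConwayType.Code Cfsg.Lib.ConwayType.Local

universe u

variable {G : Type u} [Group G] [Finite G] {z : G}

namespace Dod

theorem sep_facts : sLit.testBit (1 ^^^ 68) = false ∧ sLit.testBit (4 ^^^ 68) = true ∧ sLit.testBit 1 = true ∧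
    sLit.testBit 4 = true ∧ sLit.testBit 0 = false := by decide +kernel

theorem pairSet_sub : ∀ v ∈ pairSet, v < 2048 ∧ ∀ u ∈ pairSet, v ^^^ u ∈ pairSet := by decide +kernel

end Dod

/-- Two involutions generate a group with a central involution unless they are conjugate. -/
theorem dihedral_centre {o o' : G} (h1 : o * o = 1) (h2 : o' * o' = 1) :
    (∃ d ∈ zpowers (o * o'), d * o * d⁻¹ = o') ∨
    ∃ u ∈ zpowers (o * o'), u ≠ 1 ∧ u * u = 1 ∧ Commute u o ∧ Commute u o' ∧ (∃ d ∈ zpowers (o * o'), ∃ v, (v = o ∨ v = o') ∧ o * u = d * v * d⁻¹) ∧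
      ∃ d ∈ zpowers (o * o'), ∃ v, (v = o ∨ v = o') ∧ o' * u = d * v * d⁻¹ := by
  obtain ⟨r, hr⟩ : ∃ r, r = o * o' := ⟨_, rfl⟩
  rw [← hr]
  have oi : o⁻¹ = o := inv_eq_of_mul_eq_one_right h1
  have oi' : o'⁻¹ = o' := inv_eq_of_mul_eq_one_right h2
  have flip : ∀ v, (v = o ∨ v = o') → v * r * v⁻¹ = r⁻¹ := fun v hv => by
    rcases hv with rfl | rfl <;> rw [hr, mul_inv_rev, oi, oi']
    · rw [← mul_assoc v v o', h1, one_mul]
    · rw [mul_assoc, mul_assoc, h2, mul_one]
  have move : ∀ v, (v = o ∨ v = o') → ∀ j : ℕ, (r ^ j)⁻¹ * v * ((r ^ j)⁻¹)⁻¹ = v * r ^ (2 * j) := fun v hv j => by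
    have e : v * r ^ j * v⁻¹ = (r ^ j)⁻¹ := by rw [← conj_pow, flip v hv, inv_pow]
    rw [inv_inv, ← e]
    have vv : v⁻¹ = v := by rcases hv with rfl | rfl <;> assumption
    have vv2 : v * v = 1 := by rcases hv with rfl | rfl <;> assumption
    rw [mul_assoc (v * r ^ j) v⁻¹ v, inv_mul_cancel, mul_one, two_mul, pow_add, mul_assoc]
  obtain ⟨m, hm | hm⟩ := Nat.even_or_odd' (orderOf r)
  swap
  · refine Or.inl ⟨_, inv_mem (pow_mem (mem_zpowers r) (m + 1)), ?_⟩
    rw [move o (Or.inl rfl), show 2 * (m + 1) = orderOf r + 1 by omega, pow_succ, pow_orderOf_eq_one, one_mul, hr,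
      ← mul_assoc, h1, one_mul]
  · refine Or.inr ⟨r ^ m, pow_mem (mem_zpowers r) m, ?_⟩
    have hu2 : r ^ m * r ^ m = 1 := by rw [← pow_add, ← two_mul, ← hm, pow_orderOf_eq_one]
    have hcomm : ∀ v, (v = o ∨ v = o') → Commute (r ^ m) v := fun v hv => by
      have e : v * r ^ m * v⁻¹ = r ^ m := by
        rw [← conj_pow, flip v hv, inv_pow, inv_eq_of_mul_eq_one_right hu2]
      exact ((commute_iff_eq _ _).mpr (mul_inv_eq_iff_eq_mul.mp e)).symm
    refine ⟨fun h => ?_, hu2, hcomm o (Or.inl rfl), hcomm o' (Or.inr rfl), ?_⟩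
    · have := Nat.le_of_dvd (by have := orderOf_pos r; omega) (orderOf_dvd_of_pow_eq_one h)
      have := orderOf_pos r
      omega
    obtain ⟨j, hj | hj⟩ := Nat.even_or_odd' m
    · exact ⟨⟨_, inv_mem (pow_mem (mem_zpowers r) j), o, Or.inl rfl, by rw [move o (Or.inl rfl), hj]⟩,
        ⟨_, inv_mem (pow_mem (mem_zpowers r) j), o', Or.inr rfl, by rw [move o' (Or.inr rfl), hj]⟩⟩
    · refine ⟨⟨_, inv_mem (pow_mem (mem_zpowers r) j), o', Or.inr rfl, ?_⟩,
        ⟨_, inv_mem (pow_mem (mem_zpowers r) (j + 1)), o, Or.inl rfl, ?_⟩⟩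
      · rw [move o' (Or.inr rfl), hj, pow_succ', ← mul_assoc, hr, ← mul_assoc, h1, one_mul]
      · rw [move o (Or.inl rfl), show 2 * (j + 1) = 1 + (2 * j + 1) by ring, ← hj, pow_add, pow_one, ← mul_assoc, hr,
          ← mul_assoc, h1, one_mul]

namespace Fr

open Dod

variable (p : Fr z)

/-- The coordinates of the intersection with a conjugate of the code. -/
def InBoth (h : G) (u : ℕ) : Prop := u < 2048 ∧ h⁻¹ * p.ev u * h ∈ p.Ag

theorem both_plain {h : G} (hh : h ∈ p.Ht) (hn : h ∉ p.Mt) {u : ℕ} (hu : p.InBoth h u) (h0 : u ≠ 0) :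
    plain u = true := by
  obtain ⟨hu', b, hb, eb⟩ := hu
  simp only [plain, Bool.and_eq_true, decide_eq_true_eq, bne_iff_ne, Bool.not_eq_true']
  refine ⟨⟨hu', h0⟩, Bool.eq_false_iff.mpr fun hS => ?_⟩
  have e : h * p.ev b * h⁻¹ = p.ev u := by rw [eb]; group
  exact p.class_free hh hn hb hu' ((p.class_conj hb hu' e).trans hS) e

theorem both_xor {h : G} {u v : ℕ} (hu : p.InBoth h u) (hv : p.InBoth h v) : p.InBoth h (u ^^^ v) :=
  ⟨Nat.xor_lt_two_pow (n := 11) hu.1 hv.1, by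
    rw [p.ev_xor, show h⁻¹ * (p.ev u * p.ev v) * h = (h⁻¹ * p.ev u * h) * (h⁻¹ * p.ev v * h) by group]
    exact mul_mem hu.2 hv.2⟩

theorem both_68 {h : G} (hh : h ∈ p.Ht) : p.InBoth h 68 := by
  refine ⟨by norm_num, ?_⟩
  rw [mul_assoc, ← (p.mem_Ht.mp hh).eq, inv_mul_cancel_left]
  exact p.ev_mem (by norm_num)

/-- No z-conjugate separates the two codes. -/
theorem no_separator {h : G} (hh : h ∈ p.Ht) {x : ℕ} (hx : x < 2048) (hS : sLit.testBit x = true)
    (hsep : ∀ u, p.InBoth h u → u ≠ 0 → u ≠ 68 → sLit.testBit (x ^^^ u) = false) : False := by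
  obtain ⟨f1, f4, s1, s4, s0⟩ := sep_facts
  obtain ⟨x', hx', hS', hdiff⟩ : ∃ x' < 2048, sLit.testBit x' = true ∧
      sLit.testBit (x' ^^^ 68) = !sLit.testBit (x ^^^ 68) := by
    cases sLit.testBit (x ^^^ 68)
    · exact ⟨4, by norm_num, s4, f4⟩
    · exact ⟨1, by norm_num, s1, f1⟩
  obtain ⟨o', ho'⟩ : ∃ o', o' = h * p.ev x' * h⁻¹ := ⟨_, rfl⟩
  have hoH : p.ev x ∈ p.Ht := p.mem_Ht.mpr (p.ev_comm _ _)
  have hoH' : o' ∈ p.Ht := ho' ▸ mul_mem (mul_mem hh (p.mem_Ht.mpr (p.ev_comm _ _))) (inv_mem hh)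
  have hr : zpowers (p.ev x * o') ≤ p.Ht := zpowers_le.mpr (mul_mem hoH hoH')
  have h2 : o' * o' = 1 := by
    rw [ho', show h * p.ev x' * h⁻¹ * (h * p.ev x' * h⁻¹) = h * (p.ev x' * p.ev x') * h⁻¹ by group, p.ev_sq]; group
  rcases dihedral_centre (p.ev_sq x) h2 with ⟨d, hd, e⟩ | ⟨u, hu, hu1, -, hux, huo', ⟨d, hd, v, hv, e1⟩, ⟨d', hd', v', hv', e2⟩⟩
  · have hk : h⁻¹ * d ∈ p.Ht := mul_mem (inv_mem hh) (hr hd)
    have ek : (h⁻¹ * d) * p.ev x * (h⁻¹ * d)⁻¹ = p.ev x' := by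
      rw [show h⁻¹ * d * p.ev x * (h⁻¹ * d)⁻¹ = h⁻¹ * (d * p.ev x * d⁻¹) * h by group, e, ho']; group
    have := p.class_conj (n := h⁻¹ * d) (Nat.xor_lt_two_pow (n := 11) hx (by norm_num : 68 < 2 ^ 11))
      (Nat.xor_lt_two_pow (n := 11) hx' (by norm_num : 68 < 2 ^ 11)) (by
        rw [p.ev_xor, p.ev_xor, ← ek, show (h⁻¹ * d) * (p.ev x * p.ev 68) * (h⁻¹ * d)⁻¹ =
          (h⁻¹ * d) * p.ev x * (h⁻¹ * d)⁻¹ * ((h⁻¹ * d) * p.ev 68 * (h⁻¹ * d)⁻¹) by group,
          (p.mem_Ht.mp hk).eq, mul_inv_cancel_right])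
    rw [hdiff] at this
    cases h6 : sLit.testBit (x ^^^ 68) <;> simp [h6] at this
  · have huH : u ∈ p.Ht := hr hu
    -- both products are fused to the class
    have fused : ∀ {d v : G}, d ∈ zpowers (p.ev x * o') → (v = p.ev x ∨ v = o') →
        ∃ k ∈ p.Ht, ∃ a < 2048, sLit.testBit a = true ∧ d * v * d⁻¹ = k * p.ev a * k⁻¹ := by
      intro d v hd hv
      rcases hv with rfl | rfl
      · exact ⟨d, hr hd, x, hx, hS, rfl⟩
      · exact ⟨d * h, mul_mem (hr hd) hh, x', hx', hS', by rw [ho']; group⟩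
    obtain ⟨k, hk, a, ha, hSa, ea⟩ := fused hd hv
    obtain ⟨k', hk', a', ha', hSa', ea'⟩ := fused hd' hv'
    have huM : u ∈ p.Mt := p.cent_le hx hS ⟨mem_centralizer_singleton_iff.mpr hux, huH⟩
    have hA : p.ev x * u ∈ p.Ag := by
      rw [e1, ea]
      exact p.weak_closed hk ha hSa (ea ▸ e1 ▸ mul_mem (p.Ag_Mt (p.ev_mem hx)) huM)
    obtain ⟨c, hc, ec⟩ : u ∈ p.Ag := by
      have := mul_mem (p.ev_mem hx) hA
      rwa [← mul_assoc, p.ev_sq, one_mul] at this
    have hu' : h⁻¹ * u * h ∈ p.Ag := by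
      have hcx : h⁻¹ * u * h ∈ centralizer ({p.ev x'} : Set G) ⊓ p.Ht := by
        refine ⟨mem_centralizer_singleton_iff.mpr ?_, p.Ht.mul_mem (p.Ht.mul_mem (p.Ht.inv_mem hh) huH) hh⟩
        have := (Commute.conj_iff h⁻¹).mpr huo'
        rw [ho', inv_inv, show h⁻¹ * (h * p.ev x' * h⁻¹) * h = p.ev x' by group] at this
        exact this
      have hM := mul_mem (p.Ag_Mt (p.ev_mem hx')) (p.cent_le hx' hS' hcx)
      have eq : p.ev x' * (h⁻¹ * u * h) = (h⁻¹ * k') * p.ev a' * (h⁻¹ * k')⁻¹ := by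
        rw [show (h⁻¹ * k') * p.ev a' * (h⁻¹ * k')⁻¹ = h⁻¹ * (k' * p.ev a' * k'⁻¹) * h by group, ← ea', ← e2, ho']
        group
      have hA' : p.ev x' * (h⁻¹ * u * h) ∈ p.Ag := by
        rw [eq]
        exact p.weak_closed (mul_mem (inv_mem hh) hk') ha' hSa' (eq ▸ hM)
      have := mul_mem (p.ev_mem hx') hA'
      rwa [← mul_assoc, p.ev_sq, one_mul] at this
    have hboth : p.InBoth h c := ⟨hc, ec ▸ hu'⟩
    have hcx' : sLit.testBit (x ^^^ c) = true := by
      rw [← p.class_conj (n := k) ha (Nat.xor_lt_two_pow (n := 11) hx hc) (by rw [p.ev_xor, ec, e1, ea])]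
      exact hSa
    have h0 : c ≠ 0 := fun e => hu1 (by rw [← ec, e, p.ev_zero])
    by_cases h68 : c = 68
    · subst h68
      have := p.class_conj (n := (h⁻¹ * k')) ha' (Nat.xor_lt_two_pow (n := 11) hx' (by norm_num : 68 < 2 ^ 11)) (by
        rw [p.ev_xor, show (h⁻¹ * k') * p.ev a' * (h⁻¹ * k')⁻¹ = h⁻¹ * (k' * p.ev a' * k'⁻¹) * h by group, ← ea', ← e2,
          ho', ← ec, show h⁻¹ * (h * p.ev x' * h⁻¹ * p.ev 68) * h = p.ev x' * (h⁻¹ * p.ev 68 * h) by group,
          mul_assoc h⁻¹, ← (p.mem_Ht.mp hh).eq, inv_mul_cancel_left])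
      rw [hSa', hdiff, hcx'] at this
      simp at this
    · exact absurd hcx' (by rw [hsep c hboth h0 h68]; simp)

theorem both_conj {m h : G} (hm : m ∈ p.Mt) {u u' : ℕ} (hu' : u' < 2048) (e : m * p.ev u' * m⁻¹ = p.ev u) :
    p.InBoth h u → p.InBoth (m⁻¹ * h) u' := fun hu => by
  refine ⟨hu', ?_⟩
  rw [show (m⁻¹ * h)⁻¹ * p.ev u' * (m⁻¹ * h) = h⁻¹ * (m * p.ev u' * m⁻¹) * h by group, e]
  exact hu.2

theorem both_pair {h : G} (hh : h ∈ p.Ht) (hn : h ∉ p.Mt) (h44 : p.InBoth h 44) : False := by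
  obtain ⟨r1, r2⟩ := pair_room
  obtain ⟨-, -, -, h1, -⟩ := counts
  simp only [oFour, Bool.and_eq_true, decide_eq_true_eq] at h1
  have h68 := p.both_68 hh
  have hpair : ∀ v ∈ pairSet, p.InBoth h v := by
    intro v hv
    simp only [pairSet, List.mem_cons, List.not_mem_nil, or_false] at hv
    rcases hv with rfl | rfl | rfl | rfl
    · exact ⟨by norm_num, by simp [p.ev_zero, one_mem]⟩
    · exact h68
    · exact h44
    · exact p.both_xor h44 h68
  have member : ∀ u, p.InBoth h u → u ∈ pairSet ∨ (pMask.testBit u = true ∧ u ∈ pThree) := by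
    intro u hu
    by_cases hin : u ∈ pairSet
    · exact Or.inl hin
    · refine Or.inr ?_
      obtain ⟨ok1, ok2⟩ := pThree_ok u hu.1
      have ht : (pairSet.all fun v => plain (u ^^^ v)) = true := by
        rw [List.all_eq_true]
        intro v hv
        exact p.both_plain hh hn (p.both_xor hu (hpair v hv)) fun e => hin (xor_eq_zero'.mp e ▸ hv)
      rw [← ok1] at ht
      exact ⟨ht, List.contains_iff_mem.mp (ok2 ht)⟩
  by_cases hb : ∃ b, p.InBoth h b ∧ b ∉ pairSet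
  · obtain ⟨b, hb, hb'⟩ := hb
    obtain ⟨hbm, hbl⟩ := (member b hb).resolve_left hb'
    obtain ⟨x, hx, hSx, hsep⟩ := r2 b hbl
    have hxlt : x < 2048 := (by decide : ∀ x ∈ xPair, x < 2048) x hx
    refine p.no_separator hh hxlt hSx fun u hu h0 h68' => ?_
    refine hsep u ?_
    rcases member u hu with hu1 | ⟨hu2, hu3⟩
    · simp only [pairSet, List.mem_cons, List.not_mem_nil, or_false] at hu1
      rcases hu1 with rfl | rfl | rfl | rfl <;> simp_all
    · have hr := pair_rank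
      rw [List.all_eq_true] at hr
      have hr' := hr b hbl
      rw [List.all_eq_true] at hr'
      have hbu := hr' u hu3
      have hmem : b ^^^ u ∈ pairSet := by
        rcases member _ (p.both_xor hb hu) with h | ⟨h, -⟩
        · exact h
        · rw [h] at hbu
          simpa using hbu
      have e : u = b ^^^ (b ^^^ u) := by rw [← Nat.xor_assoc, Nat.xor_self, Nat.zero_xor]
      rw [e]
      simp only [pairSet, List.mem_cons, List.not_mem_nil, or_false] at hmem
      rcases hmem with h | h | h | h <;> rw [h] <;> simp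
  · push_neg at hb
    refine p.no_separator hh (x := 1) (by norm_num) h1.1.2 fun u hu h0 h68' => r1 u ?_
    have := hb u hu
    simp only [pairSet, List.mem_cons, List.not_mem_nil, or_false] at this
    rcases this with rfl | rfl | rfl | rfl <;> simp_all

/-- The centralizer of the dodecad normalizes the code. -/
theorem dodecad_centralizer : p.Ht = p.Mt := by
  refine le_antisymm (fun h hh => ?_) inf_le_right
  by_contra hn
  obtain ⟨-, -, -, h1, -⟩ := counts
  simp only [oFour, Bool.and_eq_true, decide_eq_true_eq] at h1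
  by_cases ha : ∀ u, p.InBoth h u → u = 0 ∨ u = 68
  · exact p.no_separator hh (x := 1) (by norm_num) h1.1.2 fun u hu h0 h68 => absurd (ha u hu) (by simp [h0, h68])
  · push_neg at ha
    obtain ⟨a, ha, a0, a68⟩ := ha
    obtain ⟨out, he, hout⟩ := pair_transitive
    have h68 := p.both_68 hh
    obtain ⟨m, hm, em⟩ := p.grow_sound _ he (hout a ha.1 (p.both_plain hh hn ha a0)
      (p.both_plain hh hn (p.both_xor ha h68) fun e => a68 (xor_eq_zero'.mp e)))
    refine p.both_pair (h := m⁻¹ * h) (mul_mem (inv_mem hm).2 hh) (fun h' => hn ?_)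
      (p.both_conj hm (by norm_num) em ha)
    have := mul_mem hm h'
    rwa [mul_inv_cancel_left] at this

/-- The order of the centralizer of the dodecad. -/
theorem card_Ht : Nat.card ↥p.Ht = 2 ^ 11 * 190080 := by rw [p.dodecad_centralizer, p.card_Mt]

/-- The centralizer of an element of the code outside the class lies in the normalizer and has no element of order seven. -/
theorem plain_centralizer {x : ℕ} (hx : x < 2048) (hp : plain x = true) :
    centralizer ({p.ev x} : Set G) ≤ normalizer (p.Ag : Set G) ∧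
      Nat.card ↥(centralizer ({p.ev x} : Set G)) = 2 ^ 11 * 190080 := by
  simp only [plain, Bool.and_eq_true, decide_eq_true_eq, bne_iff_ne, Bool.not_eq_true'] at hp
  obtain ⟨n, hn, e | e⟩ := p.two_orbits hx hp.1.2
  · have := p.class_conj hx (by norm_num) e
    rw [hp.2, block_ok 1 (by norm_num) (by norm_num)] at this
    exact absurd this (by simp)
  have key : ∀ c, c ∈ centralizer ({p.ev x} : Set G) ↔ n * c * n⁻¹ ∈ p.Ht := fun c => by
    rw [p.mem_Ht, ← e, mem_centralizer_singleton_iff]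
    exact (Commute.conj_iff n).symm
  refine ⟨fun c hc => ?_, ?_⟩
  · have := (p.dodecad_centralizer ▸ (key c).mp hc : n * c * n⁻¹ ∈ p.Mt).1
    have := mul_mem (mul_mem (inv_mem hn) this) hn
    simpa [mul_assoc] using this
  · rw [← p.card_Ht]
    exact Nat.card_congr ((Equiv.mk (fun c => n * c * n⁻¹) (fun c => n⁻¹ * c * n) (fun c => by group)
      (fun c => by group)).subtypeEquiv key)

end Fr

end Cfsg.Lib.ConwayType
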