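import Cfsg.Agent.ConwayType.Locals.Table

/-!
The thirty-two element blocks in conjugates of the code.
-/

set_option autoImplicit false
set_option maxRecDepth 100000
set_option maxHeartbeats 1000000
set_option linter.unusedSectionVars false
set_option linter.style.haveILetI false

namespace Cfsg.Lib.ConwayType

open Subgroup Cfsg.Lib.ConwayType.Code Cfsg.Lib.ConwayType.Local

universe u

variable {G : Type u} [Group G] [Finite G] {z : G}

namespace Fr

open Dod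

variable (p : Fr z)

/-- The block of z. -/
noncomputable def Bz : Subgroup G := p.Ag ⊓ p.Q

theorem Q_code {x : ℕ} (hx : x < 2048) (h : p.ev x ∈ p.Q) : x < 32 := by
  have h1 : p.toCtx.m (p.ev x) = 1 := (p.toCtx.m_one_iff (p.ev_T x).1).mpr h
  obtain ⟨hk, hb⟩ := m_indep _ (Nat.mod_lt (x / 32) (by norm_num)) _ (by omega : x / 256 < 8) fun y hy => by
    have hy' : y < 256 := (by decide : ∀ y ∈ [16, 32, 64, 128], y < 256) y hy
    rw [← p.ev_m hx hy', h1, cd_one hy']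
  omega

theorem mem_Bz {v : G} : v ∈ p.Bz ↔ ∃ u < 32, v = p.ev u := by
  constructor
  · rintro ⟨⟨x, hx, rfl⟩, hq⟩
    exact ⟨x, p.Q_code hx hq, rfl⟩
  · rintro ⟨u, hu, rfl⟩
    exact ⟨p.ev_mem (by omega), (p.ev_Q u (by simpa using hu)).1⟩

theorem card_Bz : Nat.card ↥p.Bz = 32 := by
  classical
  have h : (p.Bz : Set G) = ↑((Finset.range 32).image p.ev) := by
    ext v
    rw [SetLike.mem_coe, p.mem_Bz, Finset.mem_coe, Finset.mem_image]
    exact ⟨fun ⟨u, hu, e⟩ => ⟨u, Finset.mem_range.mpr hu, e.symm⟩, fun ⟨u, hu, e⟩ => ⟨u, Finset.mem_range.mp hu, e.symm⟩⟩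
  rw [← SetLike.coe_sort_coe, h, Nat.card_coe_set_eq, Set.ncard_coe_finset, Finset.card_image_of_injOn, Finset.card_range]
  intro a ha b hb e
  exact p.ev_inj (by simp at ha; omega) (by simp at hb; omega) e

theorem Bz_conj {k : G} (hn : k ∈ normalizer (p.Ag : Set G)) (hz : Commute k z) {v : G} (hv : v ∈ p.Bz) :
    k * v * k⁻¹ ∈ p.Bz :=
  ⟨(Subgroup.mem_normalizer_iff.mp hn v).mp hv.1, p.toCtx.norm hz hv.2⟩

theorem Bz_class {v : G} (hv : v ∈ p.Bz) (h1 : v ≠ 1) : IsConj z v := by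
  obtain ⟨u, hu, rfl⟩ := p.mem_Bz.mp hv
  have h0 : u ≠ 0 := fun e => h1 (by rw [e, p.ev_zero])
  rw [p.z_class (by omega), sMask_eq]
  exact block_ok u hu h0

/-- An involution commuting with z in the normalizer centralizes a subgroup of order eight of the block. -/
theorem Bz_fixed {k : G} (hn : k ∈ normalizer (p.Ag : Set G)) (hz : Commute k z) (hk : k * k = 1) :
    8 ≤ Nat.card ↥(p.Bz ⊓ centralizer ({k} : Set G)) := by
  classical
  have hkinv : k⁻¹ = k := inv_eq_of_mul_eq_one_right hk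
  have hcomm : ∀ a ∈ p.Bz, ∀ b ∈ p.Bz, Commute a b := fun a ha b hb => p.Ag_comm ha.1 hb.1
  have hsq : ∀ a ∈ p.Bz, a⁻¹ = a := fun a ha => by
    obtain ⟨u, -, rfl⟩ := p.mem_Bz.mp ha
    exact inv_eq_of_mul_eq_one_right (p.ev_sq u)
  let f : ↥p.Bz →* ↥p.Bz :=
    { toFun := fun v => ⟨k * v * k⁻¹ * v, mul_mem (p.Bz_conj hn hz v.2) v.2⟩
      map_one' := Subtype.ext (by simp)
      map_mul' := fun a b => Subtype.ext (by
        show k * (a * b) * k⁻¹ * (a * b) = k * a * k⁻¹ * a * (k * b * k⁻¹ * b)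
        rw [show k * (a * b) * k⁻¹ * (a * b) = k * a * k⁻¹ * ((k * b * k⁻¹) * a) * b by group,
          (hcomm _ (p.Bz_conj hn hz b.2) _ a.2).eq]
        group) }
  have h := Subgroup.card_eq_card_quotient_mul_card_subgroup f.ker
  rw [Nat.card_congr (QuotientGroup.quotientKerEquivRange f).toEquiv, p.card_Bz] at h
  have hkle : f.ker ≤ (p.Bz ⊓ centralizer ({k} : Set G)).subgroupOf p.Bz := fun v hv => by
    rw [mem_subgroupOf]
    refine ⟨v.2, mem_centralizer_singleton_iff.mpr ?_⟩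
    have e : k * v * k⁻¹ * v = 1 := congrArg Subtype.val (MonoidHom.mem_ker.mp hv)
    rw [mul_eq_one_iff_eq_inv, hsq _ v.2] at e
    exact (mul_inv_eq_iff_eq_mul.mp e).symm
  have hrle : f.range ≤ (p.Bz ⊓ centralizer ({k} : Set G)).subgroupOf p.Bz := by
    rintro _ ⟨v, rfl⟩
    rw [mem_subgroupOf]
    refine ⟨mul_mem (p.Bz_conj hn hz v.2) v.2, mem_centralizer_singleton_iff.mpr ?_⟩
    show (k * v * k⁻¹ * v) * k = k * (k * v * k⁻¹ * v)
    have h1 := (hcomm _ (p.Bz_conj hn hz v.2) _ v.2).eq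
    rw [hkinv] at h1 ⊢
    calc k * v * k * v * k = (k * v * k * v) * k := rfl
      _ = (v * (k * v * k)) * k := by rw [h1]
      _ = v * k * v * (k * k) := by simp only [mul_assoc]
      _ = (k * k) * v * k * v := by rw [hk, mul_one, one_mul]
      _ = k * (k * v * k * v) := by simp only [mul_assoc]
  have hc : Nat.card ↥((p.Bz ⊓ centralizer ({k} : Set G)).subgroupOf p.Bz) =
      Nat.card ↥(p.Bz ⊓ centralizer ({k} : Set G)) :=
    Nat.card_congr (Subgroup.subgroupOfEquivOfLe inf_le_left).toEquiv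
  have h1 := Subgroup.card_le_of_le hkle
  have h2 := Subgroup.card_le_of_le hrle
  rw [hc] at h1 h2
  have hd : Nat.card ↥(p.Bz ⊓ centralizer ({k} : Set G)) ∣ 32 := p.card_Bz ▸ Subgroup.card_dvd_of_le inf_le_left
  have hmul : 32 ≤ Nat.card ↥(p.Bz ⊓ centralizer ({k} : Set G)) * Nat.card ↥(p.Bz ⊓ centralizer ({k} : Set G)) :=
    h.le.trans (Nat.mul_le_mul h2 h1)
  by_contra hlt
  rw [not_le] at hlt
  revert hd hmul hlt
  generalize Nat.card ↥(p.Bz ⊓ centralizer ({k} : Set G)) = m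
  intro hd hmul hlt
  interval_cases m <;> omega

/-- An element outside the code that is fused to the class gives eight independent elements fixing the
fixed part of the code. -/
theorem eight_elements {h : G} (hh : h ∈ p.Ht) {x w : ℕ} (hx : x < 2048) (hS : sLit.testBit x = true)
    (hw : w < 2048) (hSw : sLit.testBit w = true) (hy : h * p.ev x * h⁻¹ ∈ p.Mt) (hnA : h * p.ev x * h⁻¹ ∉ p.Ag)
    (hc : Commute (h * p.ev x * h⁻¹) (p.ev w)) :
    ∃ S : Finset G, 8 ≤ S.card ∧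
      (∀ v ∈ S, v ∈ p.Mt ⊓ centralizer ({p.ev w} : Set G) ∧
        ∀ a ∈ p.Ag, Commute a (h * p.ev x * h⁻¹) → Commute v a) ∧
      ∀ v ∈ S, ∀ v' ∈ S, v⁻¹ * v' ∈ p.Ag → v = v' := by
  classical
  have hhM : h ∉ p.Mt := fun hm => hnA ((Subgroup.mem_normalizer_iff.mp hm.1 _).mp (p.ev_mem hx))
  have hx0 : x ≠ 0 := fun e => by
    rw [e] at hS
    exact absurd hS (by decide +kernel)
  obtain ⟨n0, hn0, e0⟩ : ∃ n ∈ normalizer (p.Ag : Set G), n * z * n⁻¹ = p.ev x := by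
    obtain ⟨n, hn, e | e⟩ := p.two_orbits hx hx0
    · exact ⟨n⁻¹, inv_mem hn, by
        have e' : n * p.ev x * n⁻¹ = z := e.trans p.ev_z
        calc n⁻¹ * z * n⁻¹⁻¹ = n⁻¹ * (n * p.ev x * n⁻¹) * n⁻¹⁻¹ := by rw [e']
          _ = p.ev x := by group⟩
    · have := p.class_conj hx (by norm_num) e
      rw [hS, show sLit.testBit 68 = false by decide +kernel] at this
      exact absurd this (by simp)
  obtain ⟨g, hg⟩ : ∃ g, g = h * n0 := ⟨_, rfl⟩
  have hgz : g * z * g⁻¹ = h * p.ev x * h⁻¹ := by rw [hg, ← e0]; group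
  -- conjugates back of elements commuting with the involution
  have back : ∀ c ∈ p.Ht, Commute c (h * p.ev x * h⁻¹) →
      g⁻¹ * c * g ∈ normalizer (p.Ag : Set G) ∧ Commute (g⁻¹ * c * g) z := fun c hc' hcy => by
    have h1 : h⁻¹ * c * h ∈ centralizer ({p.ev x} : Set G) ⊓ p.Ht := by
      refine ⟨mem_centralizer_singleton_iff.mpr ?_, p.Ht.mul_mem (p.Ht.mul_mem (p.Ht.inv_mem hh) hc') hh⟩
      have := (Commute.conj_iff h⁻¹).mpr hcy
      show Commute (h⁻¹ * c * h) (p.ev x)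
      simpa [mul_assoc] using this
    refine ⟨?_, ?_⟩
    · rw [show g⁻¹ * c * g = n0⁻¹ * (h⁻¹ * c * h) * n0 by rw [hg]; group]
      exact mul_mem (mul_mem (inv_mem hn0) (p.cent_le hx hS h1).1) hn0
    · have := (Commute.conj_iff g⁻¹).mpr hcy
      rw [← hgz] at this
      simpa [mul_assoc] using this
  obtain ⟨hkN, hkz⟩ := back _ (p.mem_Ht.mpr (p.ev_comm w 68)) hc.symm
  obtain ⟨k, hk⟩ : ∃ k, k = g⁻¹ * p.ev w * g := ⟨_, rfl⟩
  rw [← hk] at hkN hkz
  have hk2 : k * k = 1 := by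
    rw [hk, show g⁻¹ * p.ev w * g * (g⁻¹ * p.ev w * g) = g⁻¹ * (p.ev w * p.ev w) * g by group, p.ev_sq]
    group
  have h8 := p.Bz_fixed hkN hkz hk2
  -- the code and its conjugate share no element of the class
  have free : ∀ u ∈ p.Bz, g * u * g⁻¹ ∈ p.Ag → u = 1 := fun u hu hA => by
    by_contra h1
    obtain ⟨b, hb, eb⟩ := (Subgroup.mem_normalizer_iff.mp hn0 u).mp hu.1
    obtain ⟨a, ha, ea⟩ := hA
    have hb' : sLit.testBit b = true := by
      rw [← sMask_eq, ← p.z_class hb]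
      exact (p.Bz_class hu h1).trans (isConj_iff.mpr ⟨n0, eb.symm⟩)
    refine p.class_free hh hhM hb ha hb' ?_
    rw [eb, ea, hg]
    group
  let T : Finset G := (Set.toFinite ((p.Bz ⊓ centralizer ({k} : Set G) : Subgroup G) : Set G)).toFinset
  have hT : ∀ u, u ∈ T ↔ u ∈ p.Bz ∧ Commute u k := fun u => by
    simp only [T, Set.Finite.mem_toFinset, SetLike.mem_coe, Subgroup.mem_inf, mem_centralizer_singleton_iff]
    rfl
  refine ⟨T.image fun u => g * u * g⁻¹, ?_, ?_, ?_⟩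
  · rw [Finset.card_image_of_injective _ fun a b e => mul_left_cancel (mul_right_cancel e),
      ← Set.ncard_eq_toFinset_card, ← Nat.card_coe_set_eq]
    exact h8
  · intro v hv
    obtain ⟨u, hu, rfl⟩ := Finset.mem_image.mp hv
    obtain ⟨huB, huk⟩ := (hT u).mp hu
    have cw : Commute (g * u * g⁻¹) (p.ev w) := by
      have := (Commute.conj_iff g).mpr huk
      rwa [hk, show g * (g⁻¹ * p.ev w * g) * g⁻¹ = p.ev w by group] at this
    have ct : g * u * g⁻¹ ∈ p.Ht := by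
      have h1 : n0 * u * n0⁻¹ ∈ p.Ht :=
        (p.Ag_Mt ((Subgroup.mem_normalizer_iff.mp hn0 u).mp huB.1)).2
      rw [show g * u * g⁻¹ = h * (n0 * u * n0⁻¹) * h⁻¹ by rw [hg]; group]
      exact mul_mem (mul_mem hh h1) (inv_mem hh)
    have hvM : g * u * g⁻¹ ∈ p.Mt :=
      p.cent_le hw hSw ⟨mem_centralizer_singleton_iff.mpr cw, ct⟩
    refine ⟨⟨hvM, mem_centralizer_singleton_iff.mpr cw⟩, fun a ha hay => ?_⟩
    obtain ⟨haN, haz⟩ := back a ((p.Ag_Mt ha).2) hay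
    obtain ⟨c, hcdef⟩ : ∃ c, c = a * (g * u * g⁻¹) * a⁻¹ * (g * u * g⁻¹)⁻¹ := ⟨_, rfl⟩
    have hcA : c ∈ p.Ag := by
      rw [hcdef, show a * (g * u * g⁻¹) * a⁻¹ * (g * u * g⁻¹)⁻¹ =
        a * ((g * u * g⁻¹) * a⁻¹ * (g * u * g⁻¹)⁻¹) by group]
      exact mul_mem ha ((Subgroup.mem_normalizer_iff.mp hvM.1 _).mp (inv_mem ha))
    have hcB : g⁻¹ * c * g ∈ p.Bz := by
      rw [hcdef, show g⁻¹ * (a * (g * u * g⁻¹) * a⁻¹ * (g * u * g⁻¹)⁻¹) * g =
        (g⁻¹ * a * g) * u * (g⁻¹ * a * g)⁻¹ * u⁻¹ by group]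
      exact mul_mem (p.Bz_conj haN haz huB) (inv_mem huB)
    have h1 := free _ hcB (by rwa [show g * (g⁻¹ * c * g) * g⁻¹ = c by group])
    have hc1 : c = 1 := by rw [show c = g * (g⁻¹ * c * g) * g⁻¹ by group, h1]; group
    rw [hcdef] at hc1
    exact (commute_iff_eq _ _).mpr (mul_inv_eq_iff_eq_mul.mp (mul_inv_eq_one.mp hc1)).symm
  · intro v hv v' hv' hA
    obtain ⟨u, hu, rfl⟩ := Finset.mem_image.mp hv
    obtain ⟨u', hu', rfl⟩ := Finset.mem_image.mp hv'
    rw [show (g * u * g⁻¹)⁻¹ * (g * u' * g⁻¹) = g * (u⁻¹ * u') * g⁻¹ by group] at hA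
    have := free _ (mul_mem (inv_mem ((hT u).mp hu).1) ((hT u').mp hu').1) hA
    rw [inv_mul_eq_one.mp this]

end Fr

end Cfsg.Lib.ConwayType
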