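import Cfsg.Agent.ConwayType.MathieuLocal.Classify
import Cfsg.Agent.ConwayType.Locals.DodData

/-!
Evaluated checks for the centralizer of a dodecad in a group of Conway type.
-/

set_option autoImplicit false
set_option maxRecDepth 100000
set_option maxHeartbeats 1000000
set_option Elab.async false

namespace Cfsg.Lib.ConwayType.Dod

open Cfsg.Lib.Golay Cfsg.Lib.ConwayType.Local Cfsg.Lib.ConwayType.Code
open Cfsg.Lib.PermCert (PP valid)

/-- The matrix of a permutation of the code. -/
def matOf (g : PP) : List ℕ := (List.range 11).map fun i => coordOf (img g (iota (2 ^ i)))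

/-- The set reached by a derivation. -/
def growM (Ms : List (List ℕ)) : List (ℕ × ℕ) → ℕ → Option ℕ
  | [], acc => some acc
  | (v, k) :: l, acc =>
    if acc.testBit v && decide (k < Ms.length) then growM Ms l (acc ||| 1 <<< lap (Ms.getD k []) v) else none

/-- The matrix of a word. -/
def wMat (w : List ℕ) : List ℕ := w.foldr (fun k M => comp (mT.getD k idM) M) idM

/-- An entry of a packed table. -/
def ent (T w i : ℕ) : ℕ := (T >>> (w * i)) % 2 ^ w

/-- A packed matrix as a list. -/
def row (T j : ℕ) : List ℕ := (List.range 11).map fun i => ent (ent T 121 j) 11 i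

/-- The action of a packed matrix. -/
def klap (M x : ℕ) : ℕ :=
  (List.range 11).foldr (fun i a => if x.testBit i then (M >>> (11 * i)) % 2048 ^^^ a else a) 0

/-- A packed table is derived from generators. -/
def derived (Ms : List (List ℕ)) (st T n : ℕ) : Bool :=
  row T 0 == idM && (List.range n).all fun j => j == 0 ||
    (decide (ent st 16 j / 2 < j) &&
      (List.range 11).all fun i => lap (Ms.getD (ent st 16 j % 2) idM) (ent (ent T 121 (ent st 16 j / 2)) 11 i) ==
        ent (ent T 121 j) 11 i)

/-- A packed table has distinct entries. -/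
def distinct (T o n : ℕ) : Bool :=
  (List.range n).all fun j => decide (ent o 16 j < n) &&
    (j == 0 || decide (ent T 121 (ent o 16 (j - 1)) < ent T 121 (ent o 16 j)))

/-- The fixed part of a block, as a mask of positions. -/
def fixMask (U : List ℕ) (M : ℕ) : ℕ :=
  U.foldr (fun u a => 2 * a + if klap M u == u then 1 else 0) 0

/-- The block of 1. -/
def uOne : List ℕ := List.range 32

/-- The coordinates of the octads meeting 68 in four points. -/
def oFour (x : ℕ) : Bool := decide (x < 2048) && sLit.testBit x && !sLit.testBit (x ^^^ 68)

/-- The coordinates of the octads meeting 68 in six points. -/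
def oSix (x : ℕ) : Bool := decide (x < 2048) && sLit.testBit x && sLit.testBit (x ^^^ 68)

/-- The coordinates of dodecads. -/
def plain (x : ℕ) : Bool := decide (x < 2048) && x != 0 && !sLit.testBit x

/-- The four dodecads of a fixed group of order four, with the trivial word. -/
def pairSet : List ℕ := [0, 68, 44, 44 ^^^ 68]

/-- The image of an involution on the sixteen codes. -/
def fullImage (k b : ℕ) : Bool :=
  [1, 2, 4, 8, 16, 32, 64, 128].all (fun v => decide ((rho (2 * k) (act (tWord b) v) ^^^ v) < 16)) &&
  [1, 2, 4, 8].all (fun u => (List.range 256).any fun v => rho (2 * k) (act (tWord b) v) ^^^ v == u)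

theorem sMask_eq : sMask = sLit := by decide +kernel

theorem gens_ok :
    (∀ g ∈ gT ++ gFour ++ gSix ++ [gMove], preserves g = true ∧ (matOf g).all (fun y => decide (y < 2048)) = true) ∧
    mT = gT.map matOf ∧ mFour = gFour.map matOf ∧ mSix = gSix.map matOf ∧ mMove = matOf gMove ∧
    (∀ M ∈ mT, lap M 68 = 68) ∧ (∀ M ∈ mFour, lap M 68 = 68 ∧ lap M 1 = 1) ∧
    (∀ M ∈ mSix, lap M 68 = 68 ∧ lap M 4 = 4) ∧ lap mMove 1 = 4 := by decide +kernel

theorem counts :
    ((List.range 2048).filter oFour).length = 495 ∧ ((List.range 2048).filter oSix).length = 264 ∧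
    ((List.range 2048).filter plain).length = 1288 ∧ oFour 1 = true ∧ oSix 4 = true ∧ plain 68 = true := by
  decide +kernel

theorem six_transitive : ∃ out, growM mT treeSix (1 <<< 4) = some out ∧
    ∀ x < 2048, oSix x = true → out.testBit x = true := by
  refine ⟨(growM mT treeSix (1 <<< 4)).getD 0, ?_, ?_⟩ <;> decide +kernel

theorem pair_transitive : ∃ out, growM mT treePair (1 <<< 44) = some out ∧
    ∀ x < 2048, plain x = true → plain (x ^^^ 68) = true → out.testBit x = true := by
  refine ⟨(growM mT treePair (1 <<< 44)).getD 0, ?_, ?_⟩ <;> decide +kernel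

theorem six_parts : ∀ y < 2048, plain y = true → sLit.testBit (y ^^^ 1) = true →
    kbMask.testBit ((y / 32) % 8 + 8 * (y / 256)) = true := by
  decide +kernel

theorem six_image : ∀ b < 8, ∀ k < 8, kbMask.testBit (k + 8 * b) = true → fullImage k b = true := by
  decide +kernel

theorem four_image : ∀ v < 256, rho 4 v ^^^ v ∈ [0, 1, 4, 5] := by decide +kernel

theorem block_ok : ∀ x < 32, x ≠ 0 → sLit.testBit x = true := by decide +kernel

theorem uFour_ok : uFour = uOne.map (lap mMove) := by decide +kernel

theorem four_derived : derived mFour stepsFour lFour 384 = true := by decide +kernel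

theorem six_derived : derived mSix stepsSix lSix 720 = true := by decide +kernel

theorem four_distinct : distinct lFour ordFour 384 = true := by decide +kernel

theorem six_distinct : distinct lSix ordSix 720 = true := by decide +kernel

theorem four_masks : (List.range 384).map (fun j => fixMask uOne (ent lFour 121 j)) = fFour := by decide +kernel

theorem six_masks : (List.range 720).map (fun j => fixMask uFour (ent lSix 121 j)) = fSix := by decide +kernel

/-- Every involution fixing 1 is harmless or fixes an auxiliary octad with a large fixed block. -/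
theorem four_good : (((List.range 384).zip fFour).all fun e =>
    e.1 == 0 || !([1, 2, 4, 8, 16, 32, 64, 128, 256, 512, 1024].all fun v =>
        klap (ent lFour 121 e.1) (klap (ent lFour 121 e.1) v) == v) ||
      decide ((fFour.countP fun n => n &&& e.2 == e.2) < 8) ||
      xSix.any fun w => klap (ent lFour 121 e.1) (lap (wMat w) 4) == lap (wMat w) 4 &&
        decide (16 ≤ (uFour.map (lap (wMat w))).countP fun u => klap (ent lFour 121 e.1) u == u)) = true := by
  decide +kernel

/-- Every element fixing 4 with a large fixed block is harmless. -/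
theorem six_good : (((List.range 720).zip fSix).all fun e =>
    e.1 == 0 || decide ((List.range 32).countP (fun i => e.2.testBit i) < 16) ||
      decide ((fSix.countP fun n => n &&& e.2 == e.2) < 8)) = true := by
  decide +kernel

theorem pThree_ok : ∀ b < 2048, (pMask.testBit b = (pairSet.all fun v => plain (b ^^^ v))) ∧
    (pMask.testBit b = true → pThree.contains b = true) := by
  decide +kernel

/-- A rank two or three group of dodecads leaves room for an octad. -/
theorem pair_room : (∀ v ∈ [44, 44 ^^^ 68], sLit.testBit (1 ^^^ v) = false) ∧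
    ∀ b ∈ pThree, ∃ x ∈ xPair, sLit.testBit x = true ∧
      ∀ v ∈ [44, 44 ^^^ 68, b, b ^^^ 68, b ^^^ 44, b ^^^ (44 ^^^ 68)], sLit.testBit (x ^^^ v) = false := by
  decide +kernel

/-- There is no group of dodecads of rank four. -/
theorem pair_rank : (pThree.all fun b => pThree.all fun c =>
    !pMask.testBit (b ^^^ c) || pairSet.contains (b ^^^ c)) = true := by
  decide +kernel

end Cfsg.Lib.ConwayType.Dod
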