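import Cfsg.Agent.ConwayType.Locals.Lift
import Cfsg.Agent.ConwayType.Distinct

/-!
The centralizers of a z-conjugate in the centralizer of a dodecad.
-/

set_option autoImplicit false
set_option maxRecDepth 100000
set_option maxHeartbeats 1000000
set_option linter.unusedSectionVars false
set_option linter.style.haveILetI false

namespace Cfsg.Lib.ConwayType

open Subgroup Cfsg.Lib.ConwayType.Code Cfsg.Lib.ConwayType.Local
open Cfsg.Lib.LargeExtra (mem_zpowers_two)

universe u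

variable {G : Type u} [Group G] [Finite G] {z : G}

namespace Dod

theorem image_one : ∃ y < 256, rho 4 y ^^^ y = 1 := by decide +kernel

theorem singular_count : ((List.range 256).filter fun x => decide (x ≠ 0) && !qB x).length = 135 := by decide +kernel

theorem six_codes : ∀ v ∈ [1, 4, 5], 2 * v < 32 ∧ v < 16 := by decide +kernel

theorem root_parts : 68 / 32 % 8 = 2 ∧ 68 / 256 = 0 ∧ 68 < 2048 ∧ (4 : ℕ) ^^^ 64 = 68 := by decide +kernel

end Dod

namespace Fr

open Dod

variable (p : Fr z)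

/-- The centralizer of the dodecad 68. -/
def Ht : Subgroup G := centralizer ({p.ev 68} : Set G)

/-- Its intersection with the normalizer of the code. -/
def Mt : Subgroup G := normalizer (p.Ag : Set G) ⊓ p.Ht

theorem mem_Ht {h : G} : h ∈ p.Ht ↔ Commute h (p.ev 68) := mem_centralizer_singleton_iff

theorem Ag_Mt : p.Ag ≤ p.Mt := fun _ ha => ⟨p.Ag_le ha, p.mem_Ht.mpr (p.Ag_comm ha (p.ev_mem (by norm_num)))⟩

theorem Mt_conj {m : G} (hm : m ∈ p.Mt) {x : ℕ} (hx : x < 2048) :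
    ∃ y < 2048, m * p.ev x * m⁻¹ = p.ev y ∧ sLit.testBit x = sLit.testBit y ∧
      sLit.testBit (x ^^^ 68) = sLit.testBit (y ^^^ 68) := by
  obtain ⟨y, hy, e⟩ := p.coord_conj hm.1 hx
  refine ⟨y, hy, e, p.class_conj hx hy e, p.class_conj (Nat.xor_lt_two_pow (n := 11) hx (by norm_num))
    (Nat.xor_lt_two_pow (n := 11) hy (by norm_num)) (n := m) ?_⟩
  rw [p.ev_xor, p.ev_xor, ← e, (by group : m * (p.ev x * p.ev 68) * m⁻¹ = m * p.ev x * m⁻¹ * (m * p.ev 68 * m⁻¹)),
    (p.mem_Ht.mp hm.2).eq, mul_inv_cancel_right]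

/-- An orbit inside the code is counted by its coordinates. -/
theorem orbit_coords (T : Subgroup G) (r : ℕ) (l : List ℕ) (hl : ∀ x ∈ l, x < 2048) (hnd : l.Nodup)
    (hsub : ∀ m ∈ T, ∃ x ∈ l, m * p.ev r * m⁻¹ = p.ev x) :
    Nat.card ↥T ≤ l.length * Nat.card ↥(T ⊓ centralizer ({p.ev r} : Set G)) ∧
      ((∀ x ∈ l, ∃ m ∈ T, m * p.ev r * m⁻¹ = p.ev x) ↔
        Nat.card ↥T = l.length * Nat.card ↥(T ⊓ centralizer ({p.ev r} : Set G))) := by
  classical
  let O : Set G := {v | ∃ m ∈ T, m * p.ev r * m⁻¹ = v}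
  have h := card_conj_orbit T (p.ev r) O fun v => Iff.rfl
  have hO : O ⊆ ↑(l.toFinset.image p.ev) := by
    rintro v ⟨m, hm, rfl⟩
    obtain ⟨x, hx, e⟩ := hsub m hm
    exact Finset.mem_coe.mpr (Finset.mem_image.mpr ⟨x, List.mem_toFinset.mpr hx, e.symm⟩)
  have hc : (l.toFinset.image p.ev).card = l.length := by
    rw [Finset.card_image_of_injOn, List.toFinset_card_of_nodup hnd]
    exact fun x hx y hy e => p.ev_inj (hl x (List.mem_toFinset.mp hx)) (hl y (List.mem_toFinset.mp hy)) e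
  have hle : Nat.card O ≤ l.length := by
    rw [Nat.card_coe_set_eq, ← hc, ← Set.ncard_coe_finset]
    exact Set.ncard_le_ncard hO (Finset.finite_toSet _)
  refine ⟨h.le.trans (Nat.mul_le_mul_right _ hle), ⟨fun hall => ?_, fun he => ?_⟩⟩
  · have : O = ↑(l.toFinset.image p.ev) := Set.Subset.antisymm hO fun v hv => by
      obtain ⟨x, hx, rfl⟩ := Finset.mem_image.mp (Finset.mem_coe.mp hv)
      exact hall x (List.mem_toFinset.mp hx)
    rw [h, this, Nat.card_coe_set_eq, Set.ncard_coe_finset, hc]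
  · have hcard : Nat.card O = l.length := by
      rw [he] at h
      exact (Nat.eq_of_mul_eq_mul_right Nat.card_pos h).symm
    have heq : O = ↑(l.toFinset.image p.ev) := Set.eq_of_subset_of_ncard_le hO (by
      rw [Set.ncard_coe_finset, hc, ← hcard, Nat.card_coe_set_eq]) (Finset.finite_toSet _)
    intro x hx
    have : p.ev x ∈ O := heq ▸ Finset.mem_coe.mpr (Finset.mem_image.mpr ⟨x, List.mem_toFinset.mpr hx, rfl⟩)
    exact this

theorem card_Mt : Nat.card ↥p.Mt = 2 ^ 11 * 190080 := by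
  obtain ⟨-, -, hpl, -, -, h68⟩ := counts
  have h := (p.orbit_coords (normalizer (p.Ag : Set G)) 68 ((List.range 2048).filter plain)
    (fun x hx => List.mem_range.mp (List.mem_filter.mp hx).1) (List.nodup_range.filter _) fun m hm => ?_).2.mp ?_
  · rw [hpl, p.card_NA] at h
    show Nat.card ↥(normalizer (p.Ag : Set G) ⊓ centralizer ({p.ev 68} : Set G)) = _
    omega
  · obtain ⟨y, hy, e⟩ := p.coord_conj hm (x := 68) (by norm_num)
    have hc := p.class_conj (x := 68) (by norm_num) hy e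
    refine ⟨y, List.mem_filter.mpr ⟨List.mem_range.mpr hy, ?_⟩, e⟩
    simp only [plain, Bool.and_eq_true, decide_eq_true_eq, bne_iff_ne, Bool.not_eq_true'] at h68 ⊢
    refine ⟨⟨hy, fun h0 => ?_⟩, hc ▸ h68.2⟩
    rw [h0, p.ev_zero] at e
    exact absurd (p.ev_eq_one (x := 68) (by norm_num) (conj_eq_one_iff.mp e)) (by norm_num)
  · intro x hx
    simp only [List.mem_filter, List.mem_range, plain, Bool.and_eq_true, decide_eq_true_eq, bne_iff_ne,
      Bool.not_eq_true'] at hx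
    obtain ⟨n, hn, e | e⟩ := p.two_orbits hx.1 hx.2.1.2
    · have := p.class_conj hx.1 (by norm_num) e
      rw [hx.2.2, block_ok 1 (by norm_num) (by norm_num)] at this
      exact absurd this (by simp)
    · exact ⟨n⁻¹, inv_mem hn, by rw [← e]; group⟩

theorem card_Cz (p : Fr z) : Nat.card ↥(centralizer ({z} : Set G)) = 512 * 174182400 := by
  have h := Subgroup.card_eq_card_quotient_mul_card_subgroup p.toCtx.μ.ker
  have hk : p.toCtx.μ.ker = p.Q.subgroupOf (centralizer ({z} : Set G)) := by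
    ext c
    rw [MonoidHom.mem_ker, mem_subgroupOf]
    exact p.ker c
  have hle : p.Q ≤ centralizer ({z} : Set G) := fun q hq => mem_centralizer_singleton_iff.mpr (p.X.central q hq)
  rw [Nat.card_congr (QuotientGroup.quotientKerEquivRange p.μ).toEquiv, p.rng, hk,
    Nat.card_congr (Subgroup.subgroupOfEquivOfLe hle).toEquiv, p.card] at h
  have hΩ : Nat.card ↥Om = 174182400 := by
    have hcoe : ∀ (q' : (Fin 4 ⊕ Fin 4 → ZMod 2) → ZMod 2), q' = ⇑qf →
        Nat.card ↥(Cfsg.Omega (ZMod 2) q') = Nat.card ↥Om := fun q' e => by subst e; rfl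
    rw [← hcoe _ qf_coe.symm]
    exact card_omega
  rw [h, hΩ, mul_comm]

theorem card_Tg_le : Nat.card ↥p.toPt.Tg ≤ 330301440 := by
  classical
  let O : Set G := {v | ∃ c ∈ centralizer ({z} : Set G), c * p.s * c⁻¹ = v}
  have h := card_conj_orbit (centralizer ({z} : Set G)) p.s O fun v => Iff.rfl
  have el : ∀ x, ∃ q, x < 256 → q ∈ p.Q ∧ p.π q = x := fun x => by
    by_cases hx : x < 256
    · obtain ⟨q, hq⟩ := p.π_surj x hx; exact ⟨q, fun _ => hq⟩
    · exact ⟨1, fun h => absurd h hx⟩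
  choose L hL using el
  obtain ⟨d, hd, hds⟩ := p.X.exists_swap p.hs fun hm => by
    rcases (mem_zpowers_two p.X.zz).mp hm with e | e
    · exact p.toPt.s_ne.1 e
    · exact p.toPt.s_ne.2 e
  have swap : ∀ v ∈ O, z * v ∈ O := by
    rintro v ⟨c, hc, rfl⟩
    refine ⟨c * d, mul_mem hc (mem_centralizer_singleton_iff.mpr (p.X.central d hd)), ?_⟩
    rw [show c * d * p.s * (c * d)⁻¹ = c * (d * p.s * d⁻¹) * c⁻¹ by group, hds,
      show c * (z * p.s) * c⁻¹ = c * z * c⁻¹ * (c * p.s * c⁻¹) by group,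
      show c * z = z * c from mem_centralizer_singleton_iff.mp hc, mul_inv_cancel_right]
  obtain ⟨l, hl⟩ : ∃ l, l = (List.range 256).filter fun x => decide (x ≠ 0) && !qB x := ⟨_, rfl⟩
  let F : ℕ × Bool → G := fun u => (bif u.2 then z else 1) * L u.1
  have hmem : ∀ u ∈ l.toFinset ×ˢ (Finset.univ : Finset Bool), u.1 < 256 ∧ u.1 ≠ 0 ∧ qB u.1 = false := fun u hu => by
    have := List.mem_filter.mp (hl ▸ List.mem_toFinset.mp (Finset.mem_product.mp hu).1)
    simpa [List.mem_range] using this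
  have hsub : ↑((l.toFinset ×ˢ (Finset.univ : Finset Bool)).image F) ⊆ O := by
    intro v hv
    obtain ⟨⟨x, b⟩, hu, rfl⟩ := Finset.mem_image.mp (Finset.mem_coe.mp hv)
    obtain ⟨hx, h0, hq⟩ := hmem _ hu
    obtain ⟨g, hg, hg1⟩ := trans_sing hx h0 hq
    obtain ⟨c, hc, rfl⟩ := p.toCtx.m_surj hg
    obtain ⟨hQ, hπ⟩ := hL x hx
    have hcs : c * p.s * c⁻¹ ∈ O := ⟨c, mem_centralizer_singleton_iff.mpr hc, rfl⟩
    have hLO : L x ∈ O := by
      rcases p.toCtx.pi_eq hQ (p.toCtx.norm hc p.hs) (by rw [hπ, p.toCtx.act hc p.hs, p.πs, hg1]) with e | e <;> rw [e]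
      · exact hcs
      · exact swap _ hcs
    cases b
    · simpa [F] using hLO
    · exact swap _ hLO
  have hinj : Set.InjOn F ↑(l.toFinset ×ˢ (Finset.univ : Finset Bool)) := by
    rintro ⟨x, b⟩ hu ⟨y, c⟩ hv e
    obtain ⟨hx, -, -⟩ := hmem _ (Finset.mem_coe.mp hu)
    obtain ⟨hy, -, -⟩ := hmem _ (Finset.mem_coe.mp hv)
    have hF : ∀ x b, x < 256 → p.π (F (x, b)) = x := fun x b hx => by
      obtain ⟨hQ, hπ⟩ := hL x hx
      cases b
      · simp [F, hπ]
      · show p.π (z * L x) = x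
        rw [p.π_mul z p.X.mem _ hQ, p.toCtx.pi_z, Nat.zero_xor, hπ]
    obtain rfl : x = y := by rw [← hF x b hx, e, hF y c hy]
    cases b <;> cases c
    · rfl
    · exact absurd (show L x = z * L x by simpa [F] using e) fun e => p.X.ne (right_eq_mul.mp e)
    · exact absurd (show z * L x = L x by simpa [F] using e) fun e => p.X.ne (mul_eq_right.mp e)
    · rfl
  have h270 : 270 ≤ Nat.card O := by
    have hc := Set.ncard_le_ncard hsub (Set.toFinite O)
    rw [Set.ncard_coe_finset, Finset.card_image_of_injOn hinj, Finset.card_product, Finset.card_univ,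
      List.toFinset_card_of_nodup (hl ▸ List.nodup_range.filter _), hl, singular_count, Fintype.card_bool] at hc
    rw [Nat.card_coe_set_eq]
    exact hc
  rw [p.card_Cz] at h
  have h' : 270 * Nat.card ↥(centralizer ({z} : Set G) ⊓ centralizer ({p.s} : Set G)) ≤ 512 * 174182400 :=
    le_of_le_of_eq (Nat.mul_le_mul_right _ h270) h.symm
  show Nat.card ↥(centralizer ({z} : Set G) ⊓ centralizer ({p.s} : Set G)) ≤ _
  omega

theorem card_pair_le : Nat.card ↥(centralizer ({z} : Set G) ⊓ p.Ht) ≤ 786432 := by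
  classical
  have hK0 : Nat.card ↥(p.toPt.K0 (p.ev 68)) * 2520 ≤ 330301440 := by
    obtain ⟨hq, hπ⟩ := p.ev_code (x := 2) (by norm_num)
    obtain ⟨hR, hβ⟩ := p.ev_R 2 (by norm_num)
    have hA : p.toPt.A (p.ev 4) := ⟨hq, by rw [← p.ev_s]; exact p.ev_comm _ _⟩
    have hα : p.toPt.α (p.ev 4) = 2 := by
      show nr (p.π (p.ev (2 * 2))) = 2
      rw [hπ]; decide
    have c := p.toPt.orbit_count hA hR
      (fun a b => qB a = false ∧ qB b = false ∧ pB a b = false ∧ a ≠ 0 ∧ b ≠ 0 ∧ a ≠ b)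
      (by rw [hα, hβ]; decide) (fun q r hq' hr h => p.toPt.ti_move ⟨hq', hr, h⟩ hA hR hα (by rw [hβ]))
      (fun g h1 a ha b hb h => by
        obtain ⟨x1, x2, x3, x4, x5, x6⟩ := h
        refine ⟨by rw [sa_q h1 ha]; exact x1, by rw [sa_q h1 hb]; exact x2, by rw [sa_p h1 ha hb]; exact x3,
          fun e => x4 ?_, fun e => x5 ?_, fun e => x6 ?_⟩
        · rw [← (sa_inv h1 ha).2, e, sa_zero]
        · rw [← (sa_inv h1 hb).2, e, sa_zero]
        · rw [← (sa_inv h1 ha).2, e, (sa_inv h1 hb).2])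
    rw [card_tiPairs, ← p.ev_xor, show (4 : ℕ) ^^^ 2 <<< 5 = 68 by decide] at c
    have := p.card_Tg_le
    omega
  let K := centralizer ({z} : Set G) ⊓ p.Ht
  let O : Set G := {v | ∃ k ∈ K, k * p.s * k⁻¹ = v}
  have h := card_conj_orbit K p.s O fun v => Iff.rfl
  have hO : O ⊆ ↑(([2, 3, 8, 9, 10, 11] : List ℕ).toFinset.image p.ev) := by
    rintro v ⟨k, ⟨hkz, hkt⟩, rfl⟩
    have hk : Commute k z := mem_centralizer_singleton_iff.mp hkz
    have ht : Commute (p.ev 68) z := (p.ev_T 68).1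
    obtain ⟨y0, hy0, e0⟩ := image_one
    have hg : ∀ y < 256, cd (p.toCtx.m (p.ev 68)) y = rho 4 y := fun y hy => by
      obtain ⟨r1, r2, r3, -⟩ := root_parts
      rw [p.ev_m r3 hy, r1, r2]
      rfl
    have hcomm : ∀ y < 256, cd (p.toCtx.m k) (rho 4 y) = rho 4 (cd (p.toCtx.m k) y) := fun y hy => by
      have := congrArg (fun g => cd g y) (congrArg p.toCtx.m (p.mem_Ht.mp hkt).eq)
      simp only [p.toCtx.m_mul hk ht, p.toCtx.m_mul ht hk, cd_mul] at this
      rwa [hg y hy, hg _ (cd_lt _ _)] at this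
    have himg : cd (p.toCtx.m k) 1 ∈ [1, 4, 5] := by
      have e : cd (p.toCtx.m k) 1 = rho 4 (cd (p.toCtx.m k) y0) ^^^ cd (p.toCtx.m k) y0 := by
        conv_lhs => rw [← e0, cd_xor, hcomm y0 hy0]
      have h4 := four_image _ (cd_lt (p.toCtx.m k) y0)
      rw [← e] at h4
      have hne : cd (p.toCtx.m k) 1 ≠ 0 := fun h0 => absurd
        (cd_inj (p.toCtx.m k) (x := 1) (y := 0) (by norm_num) (by norm_num) (h0.trans (cd_zero _).symm)) (by norm_num)
      simpa [hne] using h4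
    have hπ : p.π (k * p.s * k⁻¹) = cd (p.toCtx.m k) 1 := by rw [p.toCtx.act hk p.hs, p.πs]
    obtain ⟨b, hb⟩ := six_codes _ himg
    obtain ⟨hq, hq'⟩ := p.ev_code hb
    rw [Finset.mem_coe, Finset.mem_image]
    have hl : ∀ v ∈ [1, 4, 5], 2 * v ∈ ([2, 3, 8, 9, 10, 11] : List ℕ) ∧ 2 * v ^^^ 1 ∈ ([2, 3, 8, 9, 10, 11] : List ℕ) := by
      decide +kernel
    rcases p.toCtx.pi_eq (p.toCtx.norm hk p.hs) hq (hπ.trans hq'.symm) with e | e
    · exact ⟨_, List.mem_toFinset.mpr (hl _ himg).1, e.symm⟩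
    · refine ⟨_, List.mem_toFinset.mpr (hl _ himg).2, ?_⟩
      rw [p.ev_xor, p.ev_z, e]
      exact ((p.ev_T _).1).eq
  have h6 : Nat.card O ≤ 6 := by
    rw [Nat.card_coe_set_eq]
    refine (Set.ncard_le_ncard hO (Finset.finite_toSet _)).trans ?_
    rw [Set.ncard_coe_finset]
    exact Finset.card_image_le.trans (by decide)
  have hle : K ⊓ centralizer ({p.s} : Set G) ≤ p.toPt.K0 (p.ev 68) := fun x hx => ⟨⟨hx.1.1, hx.2⟩, hx.1.2⟩
  have h7 := Subgroup.card_le_of_le hle
  calc Nat.card ↥K = _ := h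
    _ ≤ 6 * Nat.card ↥(p.toPt.K0 (p.ev 68)) := Nat.mul_le_mul h6 h7
    _ ≤ 786432 := by omega

/-- The octads meeting the dodecad in four points form one orbit, and the centralizer of z preserves the code. -/
theorem four_orbit : centralizer ({z} : Set G) ⊓ p.Ht ≤ p.Mt ∧
    (∀ x < 2048, oFour x = true → ∃ m ∈ p.Mt, m * p.ev 1 * m⁻¹ = p.ev x) ∧
    Nat.card ↥(p.Mt ⊓ centralizer ({p.ev 1} : Set G)) = 786432 := by
  obtain ⟨h4, -, -, h1, -, -⟩ := counts
  have ho := p.orbit_coords p.Mt 1 ((List.range 2048).filter oFour)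
    (fun x hx => List.mem_range.mp (List.mem_filter.mp hx).1) (List.nodup_range.filter _) fun m hm => by
      obtain ⟨y, hy, e, c1, c2⟩ := p.Mt_conj hm (x := 1) (by norm_num)
      refine ⟨y, List.mem_filter.mpr ⟨List.mem_range.mpr hy, ?_⟩, e⟩
      simp only [oFour, Bool.and_eq_true, decide_eq_true_eq, Bool.not_eq_true'] at h1 ⊢
      exact ⟨⟨hy, c1 ▸ h1.1.2⟩, c2 ▸ h1.2⟩
  rw [h4, p.card_Mt] at ho
  rw [p.ev_z] at ho ⊢
  have hle : p.Mt ⊓ centralizer ({z} : Set G) ≤ centralizer ({z} : Set G) ⊓ p.Ht := fun x hx => ⟨hx.2, hx.1.2⟩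
  have hc := Subgroup.card_le_of_le hle
  have hb := p.card_pair_le
  have heq : Nat.card ↥(p.Mt ⊓ centralizer ({z} : Set G)) = 786432 := by
    have := ho.1; omega
  refine ⟨?_, fun x hx h => ho.2.mpr (by rw [heq]; norm_num) x (List.mem_filter.mpr ⟨List.mem_range.mpr hx, h⟩), heq⟩
  rw [← Subgroup.eq_of_le_of_card_ge hle (by omega)]
  exact inf_le_left

theorem six_normalizes {y : ℕ} (hy : y < 2048) (hp : plain y = true) (h1 : sLit.testBit (y ^^^ 1) = true) :
    centralizer ({z} : Set G) ⊓ centralizer ({p.ev y} : Set G) ≤ normalizer (p.Ag : Set G) := by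
  intro k hk
  have hparts := six_image _ (by omega : y / 256 < 8) _ (Nat.mod_lt (y / 32) (by norm_num)) (six_parts y hy hp h1)
  simp only [fullImage, Bool.and_eq_true, List.all_eq_true, List.any_eq_true, decide_eq_true_eq, beq_iff_eq,
    List.mem_range] at hparts
  obtain ⟨hb, hs⟩ := hparts
  have hg : ∀ v < 256, cd (p.toCtx.m (p.ev y)) v = rho (2 * (y / 32 % 8)) (act (tWord (y / 256)) v) := fun v hv =>
    p.ev_m hy hv
  obtain ⟨g, hgdef⟩ : ∃ g, g = p.toCtx.m (p.ev y) := ⟨_, rfl⟩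
  rw [← hgdef] at hg
  have hlow : ∀ v < 256, cd g v ^^^ v < 16 := fun v hv => by
    refine (span_bits (P := fun v => v < 256 ∧ cd g v ^^^ v < 16) ⟨by norm_num, by rw [cd_zero]; norm_num⟩
      (fun a b ha hb => ⟨xor_lt ha.1 hb.1, ?_⟩) 8 (fun i hi => ?_) v (by simpa using hv)).2
    · rw [cd_xor, show cd g a ^^^ cd g b ^^^ (a ^^^ b) = (cd g a ^^^ a) ^^^ (cd g b ^^^ b) by ac_rfl]
      exact Nat.xor_lt_two_pow (n := 4) ha.2 hb.2
    · have hm : 2 ^ i < 256 ∧ 2 ^ i ∈ [1, 2, 4, 8, 16, 32, 64, 128] :=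
        (by decide : ∀ i < 8, 2 ^ i < 256 ∧ 2 ^ i ∈ [1, 2, 4, 8, 16, 32, 64, 128]) i hi
      exact ⟨hm.1, by rw [hg _ hm.1]; exact hb _ hm.2⟩
  have key : ∀ k' ∈ centralizer ({z} : Set G) ⊓ centralizer ({p.ev y} : Set G), ∀ i < 5,
      k' * p.ev (2 ^ i) * k'⁻¹ ∈ p.Ag := fun k' hk' i hi => by
    have hkz : Commute k' z := mem_centralizer_singleton_iff.mp hk'.1
    have hky : Commute k' (p.ev y) := mem_centralizer_singleton_iff.mp hk'.2
    have hcomm : ∀ v < 256, cd (p.toCtx.m k') (cd g v) = cd g (cd (p.toCtx.m k') v) := fun v hv => by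
      have := congrArg (fun g => cd g v) (congrArg p.toCtx.m hky.eq)
      simpa only [p.toCtx.m_mul hkz (p.ev_T y).1, p.toCtx.m_mul (p.ev_T y).1 hkz, cd_mul, ← hgdef] using this
    have hu : ∀ u ∈ [1, 2, 4, 8], cd (p.toCtx.m k') u < 16 := fun u hu => by
      obtain ⟨v, hv, ev⟩ := hs u hu
      rw [← hg v hv] at ev
      rw [← ev, cd_xor, hcomm v hv]
      exact hlow _ (cd_lt _ _)
    rcases Nat.eq_zero_or_pos i with rfl | hi0
    · rw [show p.ev (2 ^ 0) = z from p.ev_z, hkz.eq, mul_inv_cancel_right]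
      exact p.z_mem
    · obtain ⟨u, hu', hu16, e2⟩ : ∃ u ∈ [1, 2, 4, 8], u < 16 ∧ 2 ^ i = 2 * u :=
        (by decide : ∀ i < 5, 0 < i → ∃ u ∈ [1, 2, 4, 8], u < 16 ∧ 2 ^ i = 2 * u) i hi hi0
      obtain ⟨hq, hπ⟩ := p.ev_code hu16
      rw [← e2] at hq hπ
      obtain ⟨hq', hπ'⟩ := p.ev_code (hu u hu')
      have hw := (hu u hu')
      rcases p.toCtx.pi_eq (p.toCtx.norm hkz hq) hq' (by rw [p.toCtx.act hkz hq, hπ, hπ']) with e | e <;> rw [e]
      · exact p.ev_mem (by omega)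
      · exact mul_mem p.z_mem (p.ev_mem (by omega))
  refine p.norm_of_conj fun x hx => p.mem_Ag fun i hi => ?_
  have h := (Commute.conj_iff k).mpr (p.Ag_comm (key k⁻¹ (inv_mem hk) i hi) (p.ev_mem hx))
  rw [show k * (k⁻¹ * p.ev (2 ^ i) * k⁻¹⁻¹) * k⁻¹ = p.ev (2 ^ i) by group] at h
  exact h.symm

/-- The centralizer of a z-conjugate of the code lies in the normalizer. -/
theorem cent_le {x : ℕ} (hx : x < 2048) (hS : sLit.testBit x = true) :
    centralizer ({p.ev x} : Set G) ⊓ p.Ht ≤ p.Mt := by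
  intro h hh
  cases h6 : sLit.testBit (x ^^^ 68)
  · obtain ⟨m, hm, e⟩ := p.four_orbit.2.1 x hx (by simp [oFour, hx, hS, h6])
    have hc : m⁻¹ * h * m ∈ centralizer ({z} : Set G) ⊓ p.Ht := by
      refine ⟨mem_centralizer_singleton_iff.mpr ?_, mul_mem (mul_mem (inv_mem hm).2 hh.2) hm.2⟩
      have := (Commute.conj_iff m⁻¹).mpr (mem_centralizer_singleton_iff.mp hh.1 : Commute h (p.ev x))
      rw [← e, p.ev_z] at this
      show Commute (m⁻¹ * h * m) z
      simpa [mul_assoc] using this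
    have := mul_mem (mul_mem hm (p.four_orbit.1 hc)) (inv_mem hm)
    simpa [mul_assoc] using this
  · have hx0 : x ≠ 0 := fun e => by
      rw [e] at hS
      exact absurd hS (by decide +kernel)
    obtain ⟨n, hn, e⟩ := p.two_orbits hx hx0
    rcases e with e | e
    swap
    · have := p.class_conj hx (by norm_num) e
      rw [hS, show sLit.testBit 68 = false by decide +kernel] at this
      exact absurd this (by simp)
    obtain ⟨y, hy, ey⟩ := p.coord_conj hn (x := 68) (by norm_num)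
    have h1 : sLit.testBit (y ^^^ 1) = true := by
      rw [← p.class_conj (n := n) (x := x ^^^ 68) (y := y ^^^ 1) (Nat.xor_lt_two_pow (n := 11) hx (by norm_num))
        (Nat.xor_lt_two_pow (n := 11) hy (by norm_num)) (by
          rw [p.ev_xor x, (p.ev_comm x 68).eq, p.ev_xor y, ← e, ← ey]; group), h6]
    have hp : plain y = true := by
      have hc := p.class_conj (x := 68) (by norm_num) hy ey
      rw [show sLit.testBit 68 = false by decide +kernel] at hc
      simp only [plain, Bool.and_eq_true, decide_eq_true_eq, bne_iff_ne, Bool.not_eq_true']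
      refine ⟨⟨hy, fun h0 => ?_⟩, hc.symm⟩
      rw [h0, p.ev_zero] at ey
      exact absurd (p.ev_eq_one (x := 68) (by norm_num) (conj_eq_one_iff.mp ey)) (by norm_num)
    have hc : n * h * n⁻¹ ∈ centralizer ({z} : Set G) ⊓ centralizer ({p.ev y} : Set G) := by
      refine ⟨mem_centralizer_singleton_iff.mpr ?_, mem_centralizer_singleton_iff.mpr ?_⟩
      · have := (Commute.conj_iff n).mpr (mem_centralizer_singleton_iff.mp hh.1 : Commute h (p.ev x))
        rwa [e, p.ev_z] at this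
      · have := (Commute.conj_iff n).mpr (p.mem_Ht.mp hh.2)
        rwa [ey] at this
    have := mul_mem (mul_mem (inv_mem hn) (p.six_normalizes hy hp h1 hc)) hn
    exact ⟨by simpa [mul_assoc] using this, hh.2⟩

theorem maps_gT (k : ℕ) (hk : k < mT.length) : ∃ n ∈ p.Mt, p.Maps n (mT.getD k []) := by
  obtain ⟨hg, hm, -, -, -, h68, -⟩ := gens_ok
  rw [List.getD_eq_getElem _ _ hk]
  have hk' : k < gT.length := by rw [hm] at hk; simpa using hk
  have e : mT[k] = matOf gT[k] := by simp [hm]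
  obtain ⟨n, hn, hM⟩ := p.maps_pp (hg gT[k] (by simp)).1
  refine ⟨n, ⟨hn, p.mem_Ht.mpr ?_⟩, e ▸ hM⟩
  have h' := (e ▸ hM : p.Maps n mT[k]).ev 68
  exact mul_inv_eq_iff_eq_mul.mp (h'.trans (congrArg p.ev (h68 _ (List.getElem_mem hk))))

theorem grow_sound {r out : ℕ} (l : List (ℕ × ℕ)) (h : growM mT l (1 <<< r) = some out) {v : ℕ}
    (hv : out.testBit v = true) : ∃ m ∈ p.Mt, m * p.ev r * m⁻¹ = p.ev v := by
  have key : ∀ (l : List (ℕ × ℕ)) (acc out : ℕ), growM mT l acc = some out →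
      (∀ v, acc.testBit v = true → ∃ m ∈ p.Mt, m * p.ev r * m⁻¹ = p.ev v) →
      ∀ v, out.testBit v = true → ∃ m ∈ p.Mt, m * p.ev r * m⁻¹ = p.ev v := by
    intro l
    induction l with
    | nil =>
      intro acc out h ha
      obtain rfl : acc = out := Option.some.inj h
      exact ha
    | cons a l ih =>
      obtain ⟨v, k⟩ := a
      intro acc out h ha
      simp only [growM] at h
      split at h
      · next hc =>
        simp only [Bool.and_eq_true, decide_eq_true_eq] at hc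
        refine ih _ out h fun u hu => ?_
        rw [Nat.testBit_or, Bool.or_eq_true] at hu
        rcases hu with hu | hu
        · exact ha u hu
        · rw [Nat.one_shiftLeft, Nat.testBit_two_pow, decide_eq_true_eq] at hu
          obtain ⟨n, hn, hM⟩ := p.maps_gT k hc.2
          obtain ⟨m, hm, e⟩ := ha v hc.1
          exact ⟨n * m, mul_mem hn hm, by rw [← hu, ← hM.ev v, ← e]; group⟩
      · exact absurd h (by simp)
  refine key l _ out h (fun u hu => ?_) v hv
  rw [Nat.one_shiftLeft, Nat.testBit_two_pow, decide_eq_true_eq] at hu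
  exact ⟨1, one_mem _, by rw [hu]; simp⟩

/-- The octads meeting the dodecad in six points form one orbit. -/
theorem six_orbit : (∀ x < 2048, oSix x = true → ∃ m ∈ p.Mt, m * p.ev 4 * m⁻¹ = p.ev x) ∧
    Nat.card ↥(p.Mt ⊓ centralizer ({p.ev 4} : Set G)) = 1474560 := by
  obtain ⟨out, he, hout⟩ := six_transitive
  have hall : ∀ x < 2048, oSix x = true → ∃ m ∈ p.Mt, m * p.ev 4 * m⁻¹ = p.ev x := fun x hx h =>
    p.grow_sound _ he (hout x hx h)
  obtain ⟨-, h6, -, -, h4, -⟩ := counts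
  have ho := (p.orbit_coords p.Mt 4 ((List.range 2048).filter oSix)
    (fun x hx => List.mem_range.mp (List.mem_filter.mp hx).1) (List.nodup_range.filter _) fun m hm => by
      obtain ⟨y, hy, e, c1, c2⟩ := p.Mt_conj hm (x := 4) (by norm_num)
      refine ⟨y, List.mem_filter.mpr ⟨List.mem_range.mpr hy, ?_⟩, e⟩
      simp only [oSix, Bool.and_eq_true, decide_eq_true_eq] at h4 ⊢
      exact ⟨⟨hy, c1 ▸ h4.1.2⟩, c2 ▸ h4.2⟩).2.mp
    fun x hx => hall x (List.mem_range.mp (List.mem_filter.mp hx).1) (List.mem_filter.mp hx).2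
  rw [h6, p.card_Mt] at ho
  exact ⟨hall, by omega⟩

/-- A conjugate of the code by an element outside the normalizer meets the class only outside the code. -/
theorem class_free {h : G} (hh : h ∈ p.Ht) (hn : h ∉ p.Mt) {x y : ℕ} (hx : x < 2048) (hy : y < 2048)
    (hS : sLit.testBit x = true) (e : h * p.ev x * h⁻¹ = p.ev y) : False := by
  have hS' : sLit.testBit y = true := (p.class_conj hx hy e).symm.trans hS
  have h' : sLit.testBit (x ^^^ 68) = sLit.testBit (y ^^^ 68) := p.class_conj (n := h)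
    (Nat.xor_lt_two_pow (n := 11) hx (by norm_num)) (Nat.xor_lt_two_pow (n := 11) hy (by norm_num)) (by
      rw [p.ev_xor, p.ev_xor, ← e, show h * (p.ev x * p.ev 68) * h⁻¹ = h * p.ev x * h⁻¹ * (h * p.ev 68 * h⁻¹) by group,
        (p.mem_Ht.mp hh).eq, mul_inv_cancel_right])
  obtain ⟨m, hm, em⟩ : ∃ m ∈ p.Mt, m * p.ev x * m⁻¹ = p.ev y := by
    cases h6 : sLit.testBit (x ^^^ 68) <;> rw [h6] at h'
    · obtain ⟨a, ha, ea⟩ := p.four_orbit.2.1 x hx (by simp [oFour, hx, hS, h6])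
      obtain ⟨b, hb, eb⟩ := p.four_orbit.2.1 y hy (by simp [oFour, hy, hS', ← h'])
      exact ⟨b * a⁻¹, mul_mem hb (inv_mem ha), by rw [← ea, ← eb]; group⟩
    · obtain ⟨a, ha, ea⟩ := p.six_orbit.1 x hx (by simp [oSix, hx, hS, h6])
      obtain ⟨b, hb, eb⟩ := p.six_orbit.1 y hy (by simp [oSix, hy, hS', ← h'])
      exact ⟨b * a⁻¹, mul_mem hb (inv_mem ha), by rw [← ea, ← eb]; group⟩
  refine hn ?_
  have hc : m⁻¹ * h ∈ centralizer ({p.ev x} : Set G) ⊓ p.Ht := by
    refine ⟨mem_centralizer_singleton_iff.mpr ?_, mul_mem (inv_mem hm).2 hh⟩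
    have e' := congrArg (fun v => m⁻¹ * v * h) (e.trans em.symm)
    simpa [mul_assoc] using e'
  have := mul_mem hm (p.cent_le hx hS hc)
  rwa [mul_inv_cancel_left] at this

end Fr

end Cfsg.Lib.ConwayType
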