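import Cfsg.Agent.ConwayType.FiveFinal
import Cfsg.Agent.ConwayType.FiveNormal
import Cfsg.Agent.LargeExtra.Coprime
import Cfsg.Agent.LocalThree.HallJankoType.SylowThree
import Cfsg.Agent.LocalThree.HallJankoType.SevenLocal

/-!
The complement to the element of order five in its centralizer, and its centralizers of elements.
-/

set_option autoImplicit false
set_option maxRecDepth 100000
set_option maxHeartbeats 1000000
set_option linter.unusedSectionVars false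
set_option linter.style.haveILetI false

namespace Cfsg.Lib.ConwayType

open Subgroup Cfsg.Lib.ConwayType.Code Cfsg.Lib.ConwayType.Five

universe u

variable {G : Type u} [Group G] [Finite G] {z : G}

theorem card_centralizer_congr {A B : Type*} [Group A] [Group B] (e : A ≃* B) (x : A) :
    Nat.card ↥(centralizer ({x} : Set A)) = Nat.card ↥(centralizer ({e x} : Set B)) := by
  refine Nat.card_congr (Equiv.subtypeEquiv e.toEquiv fun y => ?_)
  rw [mem_centralizer_singleton_iff, mem_centralizer_singleton_iff]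
  refine ⟨fun h => ?_, fun h => ?_⟩
  · show e y * e x = e x * e y
    rw [← map_mul, h, map_mul]
  · refine e.injective ?_
    rw [map_mul, map_mul]
    exact h

namespace Fv

variable (p : Fv z)

/-- The quotient is of Hall–Janko type. -/
theorem quot_hyp (hX : Cfsg.IsExtraspecial 2 ↥p.Q0) (hc : Nat.card ↥p.Q0 = 32) (Y : Subgroup G)
    (hY : Y ≤ centralizer ({p.b} : Set G)) (hb : p.b ∈ Y) (hK : p.toCtx.K ≤ Y) (hx : p.x ∈ Y)
    [((zpowers p.b).subgroupOf Y).Normal] :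
    let zb := QuotientGroup.mk' ((zpowers p.b).subgroupOf Y) ⟨z, hK ((p.toCtx.Q_K p.X.mem).mpr
      (by rw [p.toCtx.pi_z]; decide))⟩
    ∃ Qb a σ, HallJankoType.Hyp (z := zb) Qb a σ ∧
      ¬ IsConj zb (QuotientGroup.mk' ((zpowers p.b).subgroupOf Y) ⟨p.y1, hK p.y1_K⟩) := by
  classical
  haveI : Fact (Nat.Prime 2) := ⟨Nat.prime_two⟩
  have hYb : ∀ y ∈ Y, Commute y p.b := fun y hy => mem_centralizer_singleton_iff.mp (hY hy)
  have hzK : z ∈ p.toCtx.K := (p.toCtx.Q_K p.X.mem).mpr (by rw [p.toCtx.pi_z]; decide)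
  set N := (zpowers p.b).subgroupOf Y with hN
  set mk := QuotientGroup.mk' N with hmk
  have hker : ∀ u v : ↥Y, mk u = mk v ↔ ∃ i : ℕ, (u : G) = p.b ^ i * v := fun u v => by
    rw [hmk, QuotientGroup.mk'_apply, QuotientGroup.mk'_apply, QuotientGroup.eq_iff_div_mem, hN, mem_subgroupOf,
      p.mem_zpowers_b, Subgroup.coe_div]
    exact exists_congr fun i => by rw [eq_div_iff_mul_eq', eq_comm]
  set zb := mk ⟨z, hK hzK⟩ with hzb
  have hsq : ∀ u : G, ∀ hu : u ∈ Y, u * u = 1 → u ≠ 1 → orderOf (mk ⟨u, hu⟩) = 2 := fun u hu huu hu1 => by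
    refine orderOf_eq_prime ?_ fun e => hu1 ?_
    · rw [← map_pow, show (⟨u, hu⟩ : ↥Y) ^ 2 = 1 from Subtype.ext (by rw [SubmonoidClass.coe_pow, pow_two]; exact huu),
        map_one]
    · rw [← map_one mk] at e
      obtain ⟨i, hi⟩ := (hker _ _).mp e
      exact p.inv_eq_pow huu (one_mul 1) (Commute.one_left _) hi
  have hzo : orderOf zb = 2 := hsq z (hK hzK) p.X.zz p.X.ne
  have hιmem : ∀ k : ↥p.toCtx.K, mk ⟨k, hK k.2⟩ ∈ HallJankoType.Cz zb := fun k => HallJankoType.mem_Cz.2 (by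
    rw [hzb]
    exact Commute.map (show Commute (⟨k, hK k.2⟩ : ↥Y) ⟨z, hK hzK⟩ from Subtype.ext (p.toCtx.K_z k.2)) mk)
  let ι : ↥p.toCtx.K →* ↥(HallJankoType.Cz zb) :=
    { toFun := fun k => ⟨mk ⟨k, hK k.2⟩, hιmem k⟩
      map_one' := Subtype.ext (map_one mk)
      map_mul' := fun a b => Subtype.ext (map_mul mk ⟨a, hK a.2⟩ ⟨b, hK b.2⟩) }
  have hι : ∀ k : ↥p.toCtx.K, (ι k : ↥Y ⧸ N) = mk ⟨k, hK k.2⟩ := fun _ => rfl
  have hinj : Function.Injective ι := (injective_iff_map_eq_one ι).mpr fun k hk => by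
    have := congrArg Subtype.val hk
    rw [hι, OneMemClass.coe_one, ← map_one mk] at this
    obtain ⟨i, hi⟩ := (hker _ _).mp this
    simp only [OneMemClass.coe_one, mul_one] at hi
    exact Subtype.ext (hi.trans (p.K_cap (hi ▸ k.2)))
  have hsurj : Function.Surjective ι := fun c => by
    obtain ⟨⟨y, hy⟩, e⟩ := QuotientGroup.mk'_surjective N (c : ↥Y ⧸ N)
    have hc := HallJankoType.mem_Cz.1 c.2
    rw [← e, hzb] at hc
    have hyz := hK hzK
    have h' : mk (⟨y, hy⟩ * ⟨z, hyz⟩ * ⟨y, hy⟩⁻¹) = mk ⟨z, hyz⟩ := by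
      rw [map_mul, map_mul, map_inv, hc.eq, mul_inv_cancel_right]
    obtain ⟨i, hi⟩ := (hker _ _).mp h'
    simp only [Subgroup.coe_mul, Subgroup.coe_inv] at hi
    have := p.inv_eq_pow (by
      rw [show y * z * y⁻¹ * (y * z * y⁻¹) = y * (z * z) * y⁻¹ by group, p.X.zz, mul_one, mul_inv_cancel]) p.X.zz
      p.bz.symm hi
    obtain ⟨j, k, hk, hjk⟩ := p.cent_b (mul_inv_eq_iff_eq_mul.mp this) (hYb y hy)
    refine ⟨⟨k, hk⟩, Subtype.ext ?_⟩
    rw [hι, ← e]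
    exact ((hker _ _).mpr ⟨j, hjk⟩).symm
  let eK : ↥p.toCtx.K ≃* ↥(HallJankoType.Cz zb) := MulEquiv.ofBijective ι ⟨hinj, hsurj⟩
  haveI hQn : (p.Q0.subgroupOf p.toCtx.K).Normal := ⟨fun n hn g => by
    rw [mem_subgroupOf] at hn ⊢
    exact ⟨p.toCtx.norm (p.toCtx.K_z g.2) hn.1, p.toCtx.K.mul_mem (p.toCtx.K.mul_mem g.2 n.2) (p.toCtx.K.inv_mem g.2)⟩⟩
  let Qb : Subgroup ↥(HallJankoType.Cz zb) := (p.Q0.subgroupOf p.toCtx.K).map eK.toMonoidHom
  haveI : Qb.Normal := Subgroup.Normal.map hQn _ eK.surjective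
  have hmemQ : ∀ k : ↥p.toCtx.K, eK k ∈ Qb ↔ (k : G) ∈ p.Q := fun k => by
    show eK.toMonoidHom k ∈ Qb ↔ _
    rw [Subgroup.mem_map_iff_mem eK.injective, mem_subgroupOf]
    exact ⟨fun h => h.1, fun h => ⟨h, k.2⟩⟩
  let f : ↥p.Q0 ≃* ↥Qb := (subgroupOfEquivOfLe (inf_le_right : p.Q0 ≤ p.toCtx.K)).symm.trans
    (equivMapOfInjective _ eK.toMonoidHom eK.injective)
  have hQb : Cfsg.IsExtraspecial 2 ↥Qb := Cfsg.Lib.LargeFischer.isExtraspecial_congr f hX
  have hQc : Nat.card ↥Qb = 2 ^ 5 := by rw [← Nat.card_congr f.toEquiv, hc]; norm_num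
  have hcen : centralizer (Qb : Set ↥(HallJankoType.Cz zb)) ≤ Qb := fun c hc' => by
    obtain ⟨k, rfl⟩ := eK.surjective c
    rw [hmemQ]
    have hcm : ∀ q ∈ p.Q, p.π q ∈ V0 → Commute (k : G) q := fun q hq hv => by
      have hqK : q ∈ p.toCtx.K := (p.toCtx.Q_K hq).mpr hv
      have := mem_centralizer_iff.mp hc' _ ((hmemQ ⟨q, hqK⟩).mpr hq)
      rw [← map_mul, ← map_mul] at this
      exact (congrArg Subtype.val (eK.injective this)).symm
    rw [← p.toCtx.m_one_iff (p.toCtx.K_z k.2)]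
    exact fix_both (p.toCtx.M_fix (p.toCtx.mem_M.mpr hcm)) (p.toCtx.K_fix k.2)
  let φ : ↥(HallJankoType.Cz zb) →* alternatingGroup (Fin 5) := p.theta.comp eK.symm.toMonoidHom
  have hφ : Function.Surjective φ := p.theta_surj.comp eK.symm.surjective
  have hφk : φ.ker = Qb := by
    ext c
    obtain ⟨k, rfl⟩ := eK.surjective c
    rw [MonoidHom.mem_ker, hmemQ, ← p.theta_ker]
    show p.theta (eK.symm (eK k)) = 1 ↔ _
    rw [MulEquiv.symm_apply_apply]
  obtain ⟨a, σ, D⟩ := HallJankoType.exists_data_of_cen hzo Qb hcen hQb hQc φ hφ hφk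
  have hsK : p.s ∈ p.toCtx.K := (p.toCtx.Q_K p.hs).mpr (by rw [p.πs]; decide)
  have hmove : mk ⟨p.x, hx⟩ * zb * (mk ⟨p.x, hx⟩)⁻¹ = mk ⟨p.s, hK hsK⟩ := by
    rw [hzb, ← map_inv, ← map_mul, ← map_mul]
    exact congrArg mk (Subtype.ext p.x_spec.1)
  refine ⟨Qb.map (HallJankoType.Cz zb).subtype, a, σ,
    ⟨D, ⟨mk ⟨p.x, hx⟩, ?_, ?_⟩, zb, mk ⟨p.y1, hK p.y1_K⟩, hzo, hsq _ _ p.y1_sq p.y1_ne, ?_⟩, ?_⟩
  · rw [hmove]
    exact ⟨eK ⟨p.s, hsK⟩, (hmemQ _).mpr p.hs, rfl⟩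
  · rw [hmove, hzb]
    intro e
    obtain ⟨i, hi⟩ := (hker _ _).mp e
    exact p.s_ne.2 (p.inv_eq_pow p.ss p.X.zz p.bz.symm hi)
  all_goals
    intro hcj
    obtain ⟨g, hg⟩ := isConj_iff.mp hcj
    obtain ⟨⟨g, hgY⟩, rfl⟩ := QuotientGroup.mk'_surjective N g
    rw [hzb, ← map_inv, ← map_mul, ← map_mul] at hg
    obtain ⟨i, hi⟩ := (hker _ _).mp hg
    simp only [Subgroup.coe_mul, Subgroup.coe_inv] at hi
    refine p.y1_not_z (isConj_iff.mpr ⟨g, p.inv_eq_pow (by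
      rw [show g * z * g⁻¹ * (g * z * g⁻¹) = g * (z * z) * g⁻¹ by group, p.X.zz, mul_one, mul_inv_cancel]) p.y1_sq
      (p.b_K p.y1_K) hi⟩)

theorem Q0_facts : Cfsg.IsExtraspecial 2 ↥p.Q0 ∧ Nat.card ↥p.Q0 = 32 := by
  classical
  have hm : ∀ {q : G}, q ∈ p.Q0 ↔ q ∈ p.Q ∧ p.π q ∈ V0 := fun {q} =>
    ⟨fun h => ⟨h.1, (p.toCtx.Q_K h.1).mp h.2⟩, fun h => ⟨h.1, (p.toCtx.Q_K h.1).mpr h.2⟩⟩
  have v1 : (16 : ℕ) ∈ V0 ∧ (1 : ℕ) ∈ V0 ∧ (0 : ℕ) ∈ V0 ∧ pB 16 1 = true := by decide +kernel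
  have hzQ : z ∈ p.Q0 := hm.mpr ⟨p.X.mem, by rw [p.toCtx.pi_z]; exact v1.2.2.1⟩
  have hrad : ∀ a ∈ V0, (∀ b ∈ V0, pB b a = false) → a = 0 := by decide +kernel
  refine ⟨Cfsg.Lib.LargeExtra.isExtraspecial_of (p.X.isP.to_le inf_le_left) hzQ p.X.ne p.X.zz
    (fun a ha => p.X.central a ha.1) (fun a ha b hb => p.X.comm a ha.1 b hb.1) (fun a ha => p.X.sq a ha.1)
    (fun c hc h => ?_) ?_, ?_⟩
  · refine (p.π_zero c hc.1).mp (hrad _ (hm.mp hc).2 fun b hb => ?_)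
    obtain ⟨q, hq, rfl⟩ := p.π_surj b (V0_lt b hb)
    exact (p.π_comm q hq c hc.1).mp (h q (hm.mpr ⟨hq, hb⟩))
  · obtain ⟨a, ha, ea⟩ := p.π_surj 16 (by norm_num)
    refine ⟨a, hm.mpr ⟨ha, by rw [ea]; exact v1.1⟩, p.s, hm.mpr ⟨p.hs, by rw [p.πs]; exact v1.2.1⟩, fun h => ?_⟩
    have := (p.π_comm a ha p.s p.hs).mp h
    rw [ea, p.πs, v1.2.2.2] at this
    exact Bool.noConfusion this
  · choose L hL using fun v : {v // v ∈ V0} => p.π_surj v.1 (V0_lt v.1 v.2)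
    let F : {v // v ∈ V0} × Bool → ↥p.Q0 := fun u => ⟨(bif u.2 then z else 1) * L u.1, by
      have h : L u.1 ∈ p.Q0 := hm.mpr ⟨(hL u.1).1, by rw [(hL u.1).2]; exact u.1.2⟩
      cases u.2
      · simpa using h
      · exact mul_mem hzQ h⟩
    have hFπ : ∀ u, p.π (F u : G) = u.1 := by
      rintro ⟨v, b⟩
      cases b
      · show p.π (1 * L v) = _
        rw [one_mul, (hL v).2]
      · show p.π (z * L v) = _
        rw [p.π_mul z p.X.mem _ (hL v).1, p.toCtx.pi_z, Nat.zero_xor, (hL v).2]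
    have hF : Function.Bijective F := by
      constructor
      · rintro ⟨v, b⟩ ⟨v', b'⟩ e
        have hv : v = v' := Subtype.ext (by rw [← hFπ ⟨v, b⟩, e, hFπ])
        subst hv
        have e' := congrArg (fun q : ↥p.Q0 => (q : G)) e
        refine Prod.ext rfl ?_
        have h := mul_right_cancel e'
        cases b <;> cases b' <;>
          first
            | rfl
            | exact absurd h p.X.ne
            | exact absurd h.symm p.X.ne
      · rintro ⟨q, hq⟩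
        obtain ⟨hqQ, hv⟩ := hm.mp hq
        rcases p.toCtx.pi_eq hqQ (hL ⟨_, hv⟩).1 (hL ⟨_, hv⟩).2.symm with e | e
        · exact ⟨(⟨_, hv⟩, false), Subtype.ext ((one_mul _).trans e.symm)⟩
        · exact ⟨(⟨_, hv⟩, true), Subtype.ext e.symm⟩
    rw [← Nat.card_congr (Equiv.ofBijective F hF), Nat.card_prod,
      Nat.card_congr (Equiv.subtypeEquivRight fun w : ℕ => (List.mem_toFinset (l := V0)).symm),
      Nat.card_eq_finsetCard, Nat.card_eq_fintype_card, Fintype.card_bool]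
    decide +kernel

/-- The facts about the complement. -/
theorem complement_facts : centralizer (p.Yg : Set G) = p.Ag ∧
    (∀ x : G, Commute x p.b → ∃ i : ℕ, ∃ j ∈ p.Yg, x = p.b ^ i * j) ∧
    (∀ u ∈ p.Yg, orderOf u = 2 → IsConj z u ∨ IsConj p.y1 u) ∧
    (∀ w ∈ p.Yg, orderOf w = 3 → 36 ≤ Nat.card ↥(p.Yg ⊓ centralizer ({w} : Set G))) ∧
    (∀ d ∈ p.Yg, orderOf d = 7 → Nat.card ↥(p.Yg ⊓ centralizer ({d} : Set G)) = 7) := by
  classical
  haveI : Fact (Nat.Prime 5) := ⟨by norm_num⟩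
  obtain ⟨hX, hc⟩ := p.Q0_facts
  have hN := p.XX_norm hX hc
  haveI : Fact (p.XX ≤ p.XX) := ⟨le_rfl⟩
  have hqi := p.quot_iso hX hc p.XX le_rfl p.b_XX (fun k hk => p.mem_XX.mpr (p.b_K hk))
    (p.mem_XX.mpr p.x_spec.2.2)
  obtain ⟨hqs, hqc, -⟩ := j2_facts hqi
  haveI := hqs
  set N := (zpowers p.b).subgroupOf p.XX with hNdef
  obtain ⟨Qb, a, σ, H, hsep⟩ := p.quot_hyp hX hc p.XX le_rfl p.b_XX (fun k hk => p.mem_XX.mpr (p.b_K hk))
    (p.mem_XX.mpr p.x_spec.2.2)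
  set mk := QuotientGroup.mk' N with hmk
  set Z := p.Yg.subgroupOf p.XX with hZ
  haveI hZn : Z.Normal := ⟨fun n hn g => by
    rw [hZ, mem_subgroupOf] at hn ⊢
    refine mem_centralizer_iff.mpr fun y hy => ?_
    have hy' : (g : G)⁻¹ * y * g ∈ p.Ag := (mem_normalizer_iff''.mp (hN g.2) y).mp hy
    have := (Commute.conj_iff (g : G)).mpr (mem_centralizer_iff.mp hn _ hy' : Commute _ (n : G))
    rw [show (g : G) * ((g : G)⁻¹ * y * g) * (g : G)⁻¹ = y by group] at this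
    exact this.eq⟩
  let f : ↥p.Yg →* ↥p.XX ⧸ N := mk.comp (Subgroup.inclusion p.Yg_le)
  have hinj : Function.Injective f := (injective_iff_map_eq_one f).mpr fun u hu => by
    obtain ⟨i, hi⟩ := p.mem_zpowers_b.mp (mem_subgroupOf.mp ((QuotientGroup.eq_one_iff _).mp hu))
    have hi' : p.b ^ i = (u : G) := hi
    exact Subtype.ext (hi'.symm.trans (p.b_pow_Yg (by rw [hi']; exact u.2)))
  haveI : f.range.Normal := by
    have : f.range = Z.map mk := by
      rw [MonoidHom.range_eq_map, ← Subgroup.map_map, ← MonoidHom.range_eq_map, Subgroup.inclusion_range]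
    rw [this]
    exact Subgroup.Normal.map hZn _ (QuotientGroup.mk'_surjective N)
  have hzY : z ∈ p.Yg := p.K_Yg ((p.toCtx.Q_K p.X.mem).mpr (by rw [p.toCtx.pi_z]; decide))
  have hsurj : Function.Surjective f := MonoidHom.range_eq_top.mp
    ((IsSimpleGroup.eq_bot_or_eq_top_of_normal _ inferInstance).resolve_left fun h => p.X.ne (by
      have h1 : f ⟨z, hzY⟩ = 1 := Subgroup.mem_bot.mp (h.le ⟨_, rfl⟩)
      exact congrArg (fun u : ↥p.Yg => (u : G)) (hinj (h1.trans (map_one f).symm))))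
  let e := MulEquiv.ofBijective f ⟨hinj, hsurj⟩
  have he : ∀ u, e u = f u := fun _ => rfl
  have ord : ∀ u : ↥p.Yg, orderOf (e u) = orderOf (u : G) := fun u => by
    rw [Subgroup.orderOf_coe]; exact orderOf_injective e.toMonoidHom e.injective u
  have ord' : ∀ (u : ↥p.Yg) (n : ℕ), orderOf (u : G) = n → orderOf (e u) = n := fun u n h => (ord u).trans h
  have cardC : ∀ d : ↥p.Yg, Nat.card ↥(p.Yg ⊓ centralizer ({(d : G)} : Set G)) =
      Nat.card ↥(HallJankoType.Cz (e d)) := fun d => by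
    rw [← card_centralizer_congr e d]
    refine Nat.card_congr
      { toFun := fun y => ⟨⟨y, y.2.1⟩, mem_centralizer_singleton_iff.mpr
          (Subtype.ext (mem_centralizer_singleton_iff.mp y.2.2))⟩
        invFun := fun y => ⟨y.1.1, y.1.2, mem_centralizer_singleton_iff.mpr
          (congrArg Subtype.val (mem_centralizer_singleton_iff.mp y.2))⟩
        left_inv := fun _ => rfl
        right_inv := fun _ => rfl }
  obtain ⟨t, ht⟩ := H.exists_outer
  refine ⟨?_, fun x hx => ?_, fun u hu ou => ?_, fun w hw ow => ?_, fun d hd od => ?_⟩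
  · have hM : centralizer (p.Yg : Set G) ≤ p.toCtx.M := fun y hy => p.toCtx.mem_M.mpr fun q hq hv =>
      (mem_centralizer_iff.mp hy q (p.K_Yg ((p.toCtx.Q_K hq).mpr hv))).symm
    have hle : p.Ag ≤ centralizer (p.Yg : Set G) := fun a ha => mem_centralizer_iff.mpr fun y hy =>
      (mem_centralizer_iff.mp hy a ha).symm
    have hzC : z ∉ centralizer (p.Yg : Set G) := fun hz => by
      have hcen : f ⟨z, hzY⟩ ∈ center (↥p.XX ⧸ N) := mem_center_iff.mpr fun v => by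
        obtain ⟨v, rfl⟩ := hsurj v
        rw [← map_mul, ← map_mul]
        exact congrArg f (Subtype.ext (mem_centralizer_iff.mp hz _ v.2))
      rcases IsSimpleGroup.eq_bot_or_eq_top_of_normal (center (↥p.XX ⧸ N)) inferInstance with h | h
      · rw [h, Subgroup.mem_bot, ← map_one f] at hcen
        exact p.X.ne (congrArg (fun u : ↥p.Yg => (u : G)) (hinj hcen))
      · exact hqc ⟨⟨fun x y => mem_center_iff.mp (h.ge (mem_top y)) x⟩⟩
    have hinj' : Function.Injective (p.toCtx.mM.comp (Subgroup.inclusion hM)) :=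
      (injective_iff_map_eq_one _).mpr fun ⟨q, hq⟩ h => by
        have hQ : q ∈ p.Q := p.toCtx.mM_ker.mp h
        have hv := (p.toCtx.Q_M hQ).mp (hM hq)
        by_cases h0 : p.π q = 0
        · rcases (p.π_zero q hQ).mp h0 with e | e
          · exact Subtype.ext e
          · exact absurd (e ▸ hq) hzC
        exfalso
        obtain ⟨g, hg, hp⟩ : ∃ g, g ∈ p.Ag ∧ pB (p.π q) (p.π (g * q * g⁻¹)) = true := by
          rcases irr _ hv h0 with e | e | e
          · exact ⟨p.b, p.b_Ag, by rw [p.toCtx.act p.bz hQ, p.mb, cd_e5 (p.π_lt q)]; exact e⟩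
          · exact ⟨p.a, p.a_Ag, by
              rw [p.toCtx.act (p.toCtx.M_z p.a_spec.1) hQ, p.a_spec.2.2.1, cd_e2 (p.π_lt q)]; exact e⟩
          · refine ⟨p.b ^ 2, pow_mem p.b_Ag 2, ?_⟩
            rw [p.toCtx.act (p.bz.pow_left 2) hQ, p.m_b_pow, cd_e5_pow 2 (p.π_lt q)]
            exact e
        have hgq : g * q * g⁻¹ ∈ centralizer (p.Yg : Set G) := mul_mem (mul_mem (hle hg) hq) (inv_mem (hle hg))
        have hcom := p.toCtx.comm_V1 hQ (p.toCtx.norm (p.toCtx.M_z (p.Ag_M hg)) hQ) hp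
        refine hzC ?_
        have := Subgroup.commutator_le_self _ (commutator_mem_commutator hq hgq)
        rwa [hcom] at this
    have hcard : Nat.card ↥(centralizer (p.Yg : Set G)) ≤ 60 :=
      card_O1 ▸ Nat.card_le_card_of_injective _ hinj'
    have heq : p.Ag = centralizer (p.Yg : Set G) := Subgroup.eq_of_le_of_card_ge hle (by rw [p.Ag_card]; exact hcard)
    exact heq.symm
  · obtain ⟨⟨j, hj⟩, ej⟩ := hsurj (mk ⟨x, p.mem_XX.mpr hx⟩)
    have hd : (⟨j, p.Yg_le hj⟩ : ↥p.XX)⁻¹ * ⟨x, p.mem_XX.mpr hx⟩ ∈ N := QuotientGroup.eq.mp ej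
    obtain ⟨i, hi⟩ := p.mem_zpowers_b.mp (mem_subgroupOf.mp hd)
    refine ⟨i, j, hj, ?_⟩
    have hcomm : Commute j p.b := p.mem_XX.mp (p.Yg_le hj)
    have hi' : p.b ^ i = j⁻¹ * x := hi
    rw [← (hcomm.pow_right i).eq, hi', mul_inv_cancel_left]
  · have hy1 : p.y1 ∈ p.Yg := p.K_Yg p.y1_K
    have hy12 : orderOf p.y1 = 2 := orderOf_eq_prime (by rw [pow_two]; exact p.y1_sq) p.y1_ne
    have t1 := (H.class_cases ht (ord' ⟨p.y1, hy1⟩ 2 hy12)).resolve_left hsep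
    have back : ∀ v : ↥p.Yg, IsConj (e v) (e ⟨u, hu⟩) → IsConj (v : G) u := fun v h => by
      obtain ⟨g, hg⟩ := isConj_iff.mp h
      obtain ⟨g', rfl⟩ := e.surjective g
      rw [← map_inv, ← map_mul, ← map_mul] at hg
      exact isConj_iff.mpr ⟨g', congrArg Subtype.val (e.injective hg)⟩
    rcases H.class_cases ht (ord' ⟨u, hu⟩ 2 ou) with h | h
    · exact Or.inl (back ⟨z, hzY⟩ h)
    · exact Or.inr (back ⟨p.y1, hy1⟩ (t1.symm.trans h))
  · rw [cardC ⟨w, hw⟩]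
    obtain ⟨P⟩ : Nonempty (Sylow 3 (↥p.XX ⧸ N)) := inferInstance
    obtain ⟨-, -, -, x, y, -, -, -, hx, hy, hall⟩ := H.sylow_three P
    rcases hall _ (ord' ⟨w, hw⟩ 3 ow) with h | h <;> obtain ⟨g, hg⟩ := isConj_iff.mp h
    · rw [← HallJankoType.card_Cz_conj g, hg, hx]; norm_num
    · rw [← HallJankoType.card_Cz_conj g, hg]; omega
  · rw [cardC ⟨d, hd⟩]
    obtain ⟨i, e', hcard, -, -⟩ := H.seven_cent (ord' ⟨d, hd⟩ 7 od)
    rcases Nat.eq_zero_or_pos i with h0 | hpos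
    · rw [hcard, h0]; norm_num
    exfalso
    haveI : Fact (Nat.Prime 3) := ⟨Nat.prime_three⟩
    obtain ⟨h, hh⟩ := exists_prime_orderOf_dvd_card' (G := ↥(HallJankoType.Cz (e ⟨d, hd⟩))) 3
      (by rw [hcard]; exact dvd_mul_of_dvd_right (dvd_pow_self 3 hpos.ne') 7)
    have oh : orderOf (h : ↥p.XX ⧸ N) = 3 := by rw [Subgroup.orderOf_coe, hh]
    have h7 : 7 ∣ Nat.card ↥(HallJankoType.Cz (h : ↥p.XX ⧸ N)) := by
      rw [← ord' ⟨d, hd⟩ 7 od, ← Subgroup.orderOf_mk (e ⟨d, hd⟩) (HallJankoType.mem_Cz.mpr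
        (HallJankoType.mem_Cz.mp h.2).symm : e ⟨d, hd⟩ ∈ HallJankoType.Cz (h : ↥p.XX ⧸ N))]
      exact _root_.orderOf_dvd_natCard _
    obtain ⟨P⟩ : Nonempty (Sylow 3 (↥p.XX ⧸ N)) := inferInstance
    obtain ⟨-, -, -, x, y, -, -, -, hx, hy, hall⟩ := H.sylow_three P
    rcases hall _ oh with r | r <;> obtain ⟨g, hg⟩ := isConj_iff.mp r
    · rw [← HallJankoType.card_Cz_conj g, hg, hx] at h7
      norm_num at h7
    · rw [← HallJankoType.card_Cz_conj g, hg] at h7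
      rcases hy with hy | hy <;> rw [hy] at h7 <;> norm_num at h7

end Fv

end Cfsg.Lib.ConwayType
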