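import Cfsg.Agent.ConwayType.Locals.FiveJ
import Cfsg.Agent.ConwayType.Locals.CentT

/-!
An element of order five centralizing a pair, with its two commuting factors.
-/

set_option autoImplicit false
set_option maxRecDepth 100000
set_option maxHeartbeats 1000000
set_option linter.unusedSectionVars false
set_option linter.style.haveILetI false

namespace Cfsg.Lib.ConwayType

open Subgroup Cfsg.Lib.ConwayType.Code Cfsg.Lib.ConwayType.Five

universe u

variable {G : Type u} [Group G] [Finite G] {z : G}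

/-- The facts about an element of order five of this kind. -/
structure FiveFrame (p : Fr z) (b : G) where
  F : Subgroup G
  J : Subgroup G
  alt : Nonempty (↥F ≃* alternatingGroup (Fin 5))
  bF : b ∈ F
  J_eq : J = centralizer (F : Set G)
  cent : ∀ x : G, Commute x b → ∃ i : ℕ, ∃ j ∈ J, x = b ^ i * j
  not_ti : ∀ u : G, u * u = 1 → Commute u b → ¬ IsConj (p.ev 68) u
  three : ∀ w ∈ J, orderOf w = 3 → 36 ≤ Nat.card ↥(J ⊓ centralizer ({w} : Set G))
  seven : ∀ d ∈ J, orderOf d = 7 → Nat.card ↥(J ⊓ centralizer ({d} : Set G)) = 7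

namespace Fr

variable (p : Fr z)

/-- Every element of order five centralizing the pair has a frame. -/
theorem exists_frame {b0 : G} (hz : Commute b0 z) (hs : Commute b0 p.s) (ob : orderOf b0 = 5) :
    Nonempty (FiveFrame p b0) := by
  classical
  haveI : Fact (Nat.Prime 5) := ⟨by norm_num⟩
  have b05 : b0 ^ 5 = 1 := ob ▸ pow_orderOf_eq_one b0
  have hmpow : ∀ x : G, Commute x z → ∀ n : ℕ, p.toCtx.m (x ^ n) = p.toCtx.m x ^ n := fun x hx n => by
    induction n with
    | zero => rw [pow_zero, pow_zero, p.toCtx.m_one]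
    | succ n ih => rw [pow_succ, pow_succ, p.toCtx.m_mul (hx.pow_left n) hx, ih]
  have hg5 : p.toCtx.m b0 ^ 5 = 1 := by rw [← hmpow b0 hz, b05, p.toCtx.m_one]
  have hg1 : p.toCtx.m b0 ≠ 1 := fun e => by
    have h2 : orderOf b0 ∣ 512 := p.card ▸ Subgroup.orderOf_dvd_natCard p.Q ((p.toCtx.m_one_iff hz).mp e)
    rw [ob] at h2
    norm_num at h2
  have hfix : cd (p.toCtx.m b0) 1 = 1 := p.toPt.T_fix ⟨hz, hs⟩
  obtain ⟨h, hh, l, hl, hl5⟩ := normal_form (p.toCtx.m_mem hz) hg5 hg1 (by norm_num : (1 : ℕ) < 256)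
    (by norm_num) hfix
  obtain ⟨d, hd, rfl⟩ := p.toCtx.m_surj hh
  obtain ⟨b, hbdef⟩ : ∃ b, b = d * b0 ^ l * d⁻¹ := ⟨_, rfl⟩
  let v : Fv z :=
    { toPt := p.toPt
      b := b
      bz := hbdef ▸ (hd.mul_left (hz.pow_left l)).mul_left hd.inv_left
      b5 := by rw [hbdef, conj_pow, ← pow_mul, mul_comm, pow_mul, b05, one_pow, mul_one, mul_inv_cancel]
      mb := by
        rw [hbdef, p.toCtx.m_mul (hd.mul_left (hz.pow_left l)) hd.inv_left, p.toCtx.m_mul hd (hz.pow_left l),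
          p.toCtx.m_inv hd, hmpow b0 hz, hl] }
  obtain ⟨n, hn⟩ : ∃ n, (b0 ^ l) ^ n = b0 := by
    obtain ⟨n, -, h1⟩ := (by decide : ∀ r < 5, r ≠ 0 → ∃ n < 5, r * n % 5 = 1) (l % 5) (Nat.mod_lt _ (by norm_num))
      (fun h => hl5 (Nat.dvd_of_mod_eq_zero h))
    refine ⟨n, ?_⟩
    rw [← pow_mul, ← pow_mod_orderOf, ob, Nat.mul_mod, ← Nat.mod_mod l 5, ← Nat.mul_mod]
    rw [h1, pow_one]
  have hbn : d⁻¹ * v.b ^ n * d = b0 := by
    show d⁻¹ * b ^ n * d = b0
    rw [hbdef, conj_pow, hn]; group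
  have hcb : ∀ {x : G}, Commute x b0 ↔ Commute (d * x * d⁻¹) v.b := fun {x} => by
    show _ ↔ Commute _ b
    rw [hbdef, Commute.conj_iff]
    exact ⟨fun h => h.pow_right l, fun h => hn ▸ h.pow_right n⟩
  obtain ⟨hC, hcent, hinv, h3, h7⟩ := v.complement_facts
  let c := MulAut.conj d⁻¹
  have hmem : ∀ (S : Subgroup G) (x : G), x ∈ S.map c.toMonoidHom ↔ d * x * d⁻¹ ∈ S := fun S x => by
    constructor
    · rintro ⟨y, hy, rfl⟩
      rwa [show d * (c.toMonoidHom y) * d⁻¹ = y by show d * (d⁻¹ * y * d⁻¹⁻¹) * d⁻¹ = y; group]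
    · exact fun h => ⟨_, h, by show d⁻¹ * (d * x * d⁻¹) * d⁻¹⁻¹ = x; group⟩
  have hoc : ∀ x : G, orderOf (d * x * d⁻¹) = orderOf x := fun x =>
    (MulAut.conj d).orderOf_eq x
  have hcard : ∀ x : G, Nat.card ↥(v.Yg.map c.toMonoidHom ⊓ centralizer ({x} : Set G)) =
      Nat.card ↥(v.Yg ⊓ centralizer ({d * x * d⁻¹} : Set G)) := fun x =>
    Nat.card_congr
      { toFun := fun y => ⟨d * y * d⁻¹, (hmem _ _).mp y.2.1,
          mem_centralizer_singleton_iff.mpr ((Commute.conj_iff d).mpr (mem_centralizer_singleton_iff.mp y.2.2)).eq⟩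
        invFun := fun y => ⟨d⁻¹ * y * d, (hmem _ _).mpr (by
            rw [show d * (d⁻¹ * (y : G) * d) * d⁻¹ = y by group]; exact y.2.1),
          mem_centralizer_singleton_iff.mpr ((Commute.conj_iff d).mp (by
            rw [show d * (d⁻¹ * (y : G) * d) * d⁻¹ = y by group]
            exact mem_centralizer_singleton_iff.mp y.2.2)).eq⟩
        left_inv := fun y => Subtype.ext (by group)
        right_inv := fun y => Subtype.ext (by group) }
  refine ⟨{
    F := v.Ag.map c.toMonoidHom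
    J := v.Yg.map c.toMonoidHom
    alt := v.Ag_equiv.map fun e => ((v.Ag.equivMapOfInjective _ c.injective).symm.trans e)
    bF := (hmem _ _).mpr ?_
    J_eq := ?_
    cent := fun x hx => ?_
    not_ti := fun u huu hu hc => ?_
    three := fun w hw ow => ?_
    seven := fun x hx ox => ?_ }⟩
  · rw [← hbn, show d * (d⁻¹ * v.b ^ n * d) * d⁻¹ = v.b ^ n by group]
    exact pow_mem v.b_Ag n
  · ext x
    rw [hmem, mem_centralizer_iff]
    constructor
    · intro hx y hy
      have := mem_centralizer_iff.mp hx _ ((hmem _ _).mp hy)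
      exact ((Commute.conj_iff d).mp (this : Commute (d * y * d⁻¹) (d * x * d⁻¹))).eq
    · intro hx
      refine mem_centralizer_iff.mpr fun y hy => ?_
      have : Commute (d⁻¹ * y * d) x := hx _ ((hmem _ _).mpr (by
        rw [show d * (d⁻¹ * y * d) * d⁻¹ = y by group]; exact hy))
      have := (Commute.conj_iff d).mpr this
      rwa [show d * (d⁻¹ * y * d) * d⁻¹ = y by group] at this
  · obtain ⟨i, j, hj, e⟩ := hcent _ (hcb.mp hx)
    refine ⟨i * l, d⁻¹ * j * d, (hmem _ _).mpr (by rw [show d * (d⁻¹ * j * d) * d⁻¹ = j by group]; exact hj), ?_⟩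
    rw [show x = d⁻¹ * (d * x * d⁻¹) * d by group, e, show v.b = d * b0 ^ l * d⁻¹ from hbdef, conj_pow,
      ← pow_mul, mul_comm l i]
    group
  · obtain ⟨i, j, hj, e⟩ := hcent _ (hcb.mp hu)
    have hjb : Commute j v.b := v.mem_XX.mp (v.Yg_le hj)
    have h2 : v.b ^ (i + i) * (j * j) = 1 := by
      rw [pow_add, ← (hjb.pow_right i).mul_mul_mul_comm, ← e,
        show d * u * d⁻¹ * (d * u * d⁻¹) = d * (u * u) * d⁻¹ by group, huu, mul_one, mul_inv_cancel]
    have h1 : v.b ^ (i + i) = 1 := v.b_pow_Yg (by rw [eq_inv_of_mul_eq_one_left h2]; exact inv_mem (mul_mem hj hj))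
    have hbi : v.b ^ i = 1 := by
      rw [← orderOf_dvd_iff_pow_eq_one, v.b_order] at h1 ⊢
      omega
    rw [hbi, one_mul] at e
    have hj1 : j ≠ 1 := fun h => by
      rw [h, conj_eq_one_iff] at e
      rw [e] at hc
      obtain ⟨g, hg⟩ := isConj_iff.mp hc
      rw [conj_eq_one_iff] at hg
      exact absurd (p.ev_eq_one (by norm_num) hg) (by norm_num)
    have oj : orderOf j = 2 := orderOf_eq_prime (by
      rw [pow_two, ← e, show d * u * d⁻¹ * (d * u * d⁻¹) = d * (u * u) * d⁻¹ by group, huu, mul_one, mul_inv_cancel])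
      hj1
    have hc' : IsConj (p.ev 68) j := hc.trans (isConj_iff.mpr ⟨d, e⟩)
    rcases hinv j hj oj with h | h
    · exact p.base_classes.2.2.2.1 (h.trans hc'.symm)
    · obtain ⟨hq, hr, a, b'⟩ := v.tt_spec
      have e68 : p.ev 68 = p.ev 4 * p.ev 64 := by rw [← p.ev_xor]; rfl
      obtain ⟨hQ, hπ⟩ := p.ev_code (x := 2) (by norm_num)
      obtain ⟨hR, hβ⟩ := p.ev_R 2 (by norm_num)
      refine p.toPt.tt_not_ti hq hr a b' (q2 := p.ev 4) (r2 := p.ev 64)
        ⟨hQ, by rw [← p.ev_s]; exact p.ev_comm _ _⟩ hR ?_ hβ ?_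
      · show nr (p.π (p.ev (2 * 2))) = 2
        rw [hπ]; decide
      · exact e68 ▸ h.trans hc'.symm
  · rw [hcard]
    exact h3 _ ((hmem _ _).mp hw) ((hoc w).trans ow)
  · rw [hcard]
    exact h7 _ ((hmem _ _).mp hx) ((hoc x).trans ox)

end Fr

end Cfsg.Lib.ConwayType
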