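import Cfsg.Agent.ConwayType.MathieuLocal.Main
import Cfsg.Agent.ConwayType.Locals.DodCheck
import Cfsg.Agent.Golay.M24

/-!
Elements of the normalizer realising permutations of the code, and their number.
-/

set_option autoImplicit false
set_option maxRecDepth 100000
set_option maxHeartbeats 1000000
set_option linter.unusedSectionVars false
set_option linter.style.haveILetI false

namespace Cfsg.Lib.ConwayType

open Subgroup Cfsg.Lib.Golay Cfsg.Lib.Golay.Modules
open Cfsg.Lib.PermCert (PP valid)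
open scoped Pointwise

universe u

variable {G : Type u} [Group G] [Finite G] {z : G}

namespace Local

theorem coord_cong {m y : ℕ} (hm : m < 2 ^ 24) (hy : y < 2048) (h : Cong (wd m) (vw y)) : coordOf m = y := by
  obtain ⟨hc, hk, -, -⟩ := iota_table y hy
  have hl := lt_of_inCode hc
  rcases h with h | h <;> have e := congrArg (fun v => Cfsg.Lib.Golay.mk (support₂ v)) h
  · simp only [vw, mk_wd hm, mk_wd hl] at e
    rw [e, hk]
  · simp only [vw] at e
    rw [← wd_all_ones, ← wd_xor, mk_wd hm, mk_wd (Nat.xor_lt_two_pow hl (by norm_num))] at e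
    rw [e, coordOf_xor, coord_full, Nat.xor_zero, hk]

end Local

namespace Fr

open Local Dod

variable (p : Fr z)

theorem coord_conj {n : G} (hn : n ∈ normalizer (p.Ag : Set G)) {x : ℕ} (hx : x < 2048) :
    ∃ y < 2048, n * p.ev x * n⁻¹ = p.ev y := by
  obtain ⟨y, hy, e⟩ := (Subgroup.mem_normalizer_iff.mp hn _).mp (p.ev_mem hx)
  exact ⟨y, hy, e.symm⟩

theorem class_conj {n : G} {x y : ℕ} (hx : x < 2048) (hy : y < 2048) (e : n * p.ev x * n⁻¹ = p.ev y) :
    sLit.testBit x = sLit.testBit y := by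
  rw [← sMask_eq]
  refine Bool.eq_iff_iff.mpr ?_
  rw [← p.z_class hx, ← p.z_class hy]
  exact ⟨fun h => h.trans (isConj_iff.mpr ⟨n, e⟩), fun h => h.trans (isConj_iff.mpr ⟨n, e⟩).symm⟩

/-- A permutation of the code is realised with its matrix. -/
theorem maps_pp {g : PP} (hg : preserves g = true) :
    ∃ n ∈ normalizer (p.Ag : Set G), p.Maps n (matOf g) := by
  obtain ⟨n, hn⟩ := p.toM24_surjective ⟨toP g, toP_mem_M24 hg⟩
  have hr := p.toM24_rel n
  rw [hn] at hr
  have hv := valid_of_pres hg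
  refine ⟨n, n.2, fun i hi => ?_⟩
  have hx : 2 ^ i < 2048 := lt_of_lt_of_le (Nat.pow_lt_pow_right (by norm_num) hi) (by norm_num)
  obtain ⟨y, hy, e, hc⟩ := hr.2 _ hx
  rw [p.ev_bit hi] at e
  rw [e]
  congr 1
  rw [vw, FixedCosets.pw_wd hv (lt_of_inCode (iota_table _ hx).1)] at hc
  have h := coord_cong (Cfsg.Lib.Golay.img_lt hv _) hy hc
  rw [← h, matOf, List.getD_eq_getElem _ _ (by rw [List.length_map, List.length_range]; exact hi), List.getElem_map,
    List.getElem_range]

theorem maps_lap {n : G} {M : List ℕ} (h : p.Maps n M) {x : ℕ} : n * p.ev x * n⁻¹ = p.ev (lap M x) := h.ev x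

theorem card_NA : Nat.card ↥(normalizer (p.Ag : Set G)) = 2 ^ 11 * 244823040 := by
  have h1 := p.toM24.ker.card_eq_card_quotient_mul_card_subgroup
  rw [Nat.card_congr (QuotientGroup.quotientKerEquivOfSurjective p.toM24 p.toM24_surjective).toEquiv,
    Cfsg.Lib.Golay.card_M24, p.ker_toM24,
    Nat.card_congr (Subgroup.subgroupOfEquivOfLe Subgroup.le_normalizer).toEquiv, p.card_Ag] at h1
  rw [h1, mul_comm]

theorem Ag_le : p.Ag ≤ normalizer (p.Ag : Set G) := Subgroup.le_normalizer

theorem Ag_comm {a b : G} (ha : a ∈ p.Ag) (hb : b ∈ p.Ag) : Commute a b := by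
  obtain ⟨x, -, rfl⟩ := ha
  obtain ⟨y, -, rfl⟩ := hb
  exact p.ev_comm x y

/-- Two elements with the same action differ by an element of the subgroup. -/
theorem same_action {n m : G} {A B : List ℕ} (hn : p.Maps n A) (hm : p.Maps m B)
    (h : ∀ i < 5, lap A (2 ^ i) = lap B (2 ^ i)) : m⁻¹ * n ∈ p.Ag := by
  refine p.mem_Ag fun i hi => ?_
  have e : n * p.ev (2 ^ i) * n⁻¹ = m * p.ev (2 ^ i) * m⁻¹ := by rw [hn.ev, hm.ev, h i hi]
  have e' := congrArg (fun x => m⁻¹ * x * n) e
  show m⁻¹ * n * p.ev (2 ^ i) = p.ev (2 ^ i) * (m⁻¹ * n)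
  simpa [mul_assoc] using e'

end Fr

end Cfsg.Lib.ConwayType
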