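import Cfsg.Agent.ConwayType.Locals.DodOrbit

/-!
The stabilizers of two octads in the centralizer of a dodecad, as tables of matrices.
-/

set_option autoImplicit false
set_option maxRecDepth 100000
set_option maxHeartbeats 1000000
set_option linter.unusedSectionVars false
set_option linter.style.haveILetI false

namespace Cfsg.Lib.ConwayType

open Subgroup Cfsg.Lib.ConwayType.Code Cfsg.Lib.ConwayType.Local

universe u

variable {G : Type u} [Group G] [Finite G] {z : G}

namespace Dod

theorem row_getD (T j : ℕ) {i : ℕ} (hi : i < 11) : (row T j).getD i 0 = ent (ent T 121 j) 11 i := by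
  rw [row, List.getD_eq_getElem _ _ (by rw [List.length_map, List.length_range]; exact hi), List.getElem_map,
    List.getElem_range]

theorem row_length (T j : ℕ) : (row T j).length = 11 := by simp [row]

theorem klap_eq (M x : ℕ) : klap M x = lap ((List.range 11).map fun i => ent M 11 i) x := by
  show _ = Cfsg.Lib.Classical.OrthH1.lN 11 _ x
  have key : ∀ l : List ℕ, (∀ i ∈ l, i < 11) →
      l.foldr (fun i a => if x.testBit i then (M >>> (11 * i)) % 2048 ^^^ a else a) 0 =
        (l.map fun j => if x.testBit j then ((List.range 11).map fun i => ent M 11 i).getD j 0 else 0).foldr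
          (· ^^^ ·) 0 := by
    intro l
    induction l with
    | nil => intro _; rfl
    | cons i l ih =>
      intro h
      have hi := h i List.mem_cons_self
      rw [List.foldr_cons, List.map_cons, List.foldr_cons, ih fun j hj => h j (List.mem_cons_of_mem _ hj),
        List.getD_eq_getElem _ _ (by rw [List.length_map, List.length_range]; exact hi), List.getElem_map,
        List.getElem_range, ent]
      cases x.testBit i <;> simp
  exact key _ fun i hi => List.mem_range.mp hi

theorem digits_ext {a b : ℕ} (ha : a < 2 ^ 121) (hb : b < 2 ^ 121) (h : ∀ i < 11, ent a 11 i = ent b 11 i) : a = b := by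
  refine Nat.eq_of_testBit_eq fun k => ?_
  by_cases hk : k < 121
  · have hr : k % 11 < 11 := Nat.mod_lt _ (by norm_num)
    have e : ∀ a : ℕ, (ent a 11 (k / 11)).testBit (k % 11) = a.testBit k := fun a => by
      rw [ent, Nat.testBit_mod_two_pow, decide_eq_true hr, Bool.true_and, Nat.testBit_shiftRight, Nat.div_add_mod]
    rw [← e a, ← e b, h _ (by omega)]
  · rw [Nat.testBit_lt_two_pow (lt_of_lt_of_le ha (Nat.pow_le_pow_right two_pos (by omega))),
      Nat.testBit_lt_two_pow (lt_of_lt_of_le hb (Nat.pow_le_pow_right two_pos (by omega)))]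

theorem idM_getD : ∀ i < 11, idM.getD i 0 = 2 ^ i := by decide

theorem testBit_fixMask : ∀ (U : List ℕ) (M i : ℕ), (fixMask U M).testBit i =
    (decide (i < U.length) && (klap M (U.getD i 0) == U.getD i 0))
  | [], M, i => by simp [fixMask]
  | u :: U, M, 0 => by
    simp only [fixMask, List.foldr_cons, Nat.testBit_zero, List.length_cons, List.getD_cons_zero]
    split <;> simp_all [Nat.add_mod, Nat.mul_mod_right]
  | u :: U, M, i + 1 => by
    simp only [fixMask, List.foldr_cons, List.length_cons, List.getD_cons_succ]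
    rw [Nat.testBit_succ, show (2 * List.foldr (fun u a => 2 * a + if klap M u == u then 1 else 0) 0 U +
      if klap M u == u then 1 else 0) / 2 = List.foldr (fun u a => 2 * a + if klap M u == u then 1 else 0) 0 U by
      split <;> omega]
    rw [show List.foldr (fun u a => 2 * a + if klap M u == u then 1 else 0) 0 U = fixMask U M from rfl,
      testBit_fixMask U M i]
    simp

theorem fixMask_sub {U : List ℕ} {M N : ℕ}
    (h : ∀ u ∈ U, klap M u = u → klap N u = u) : fixMask U N &&& fixMask U M = fixMask U M := by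
  refine Nat.eq_of_testBit_eq fun i => ?_
  rw [Nat.testBit_and, testBit_fixMask, testBit_fixMask]
  by_cases hi : i < U.length
  · simp only [hi, decide_true, Bool.true_and]
    rw [Bool.eq_iff_iff]
    simp only [Bool.and_eq_true, beq_iff_eq]
    refine ⟨fun h' => h'.2, fun h' => ⟨?_, h'⟩⟩
    rw [List.getD_eq_getElem _ _ hi] at h' ⊢
    exact h _ (List.getElem_mem hi) h'
  · simp [hi]

theorem countP_fixMask (U : List ℕ) (M : ℕ) :
    (List.range U.length).countP (fun i => (fixMask U M).testBit i) = U.countP fun u => klap M u == u := by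
  induction U with
  | nil => rfl
  | cons u U ih =>
    rw [List.length_cons, List.range_succ_eq_map, List.countP_cons, List.countP_map, List.countP_cons]
    have h1 : ((fun i => (fixMask (u :: U) M).testBit i) ∘ Nat.succ) = fun i => (fixMask U M).testBit i := by
      funext i
      simp [Function.comp, testBit_fixMask]
    rw [h1, ih, testBit_fixMask]
    simp

end Dod

namespace Fr

open Dod

variable (p : Fr z)

theorem maps_of_gens {gs : List Cfsg.Lib.PermCert.PP} {Ms : List (List ℕ)} {r : ℕ}
    (hg : ∀ g ∈ gs, Cfsg.Lib.Golay.preserves g = true) (hm : Ms = gs.map matOf)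
    (hfix : ∀ M ∈ Ms, lap M 68 = 68 ∧ lap M r = r) {k : ℕ} (hk : k < Ms.length) :
    ∃ n ∈ p.Mt ⊓ centralizer ({p.ev r} : Set G), p.Maps n (Ms.getD k idM) := by
  rw [List.getD_eq_getElem _ _ hk]
  have hk' : k < gs.length := by rw [hm] at hk; simpa using hk
  have e : Ms[k] = matOf gs[k] := by simp [hm]
  obtain ⟨n, hn, hM⟩ := p.maps_pp (hg gs[k] (List.getElem_mem hk'))
  have hM' : p.Maps n Ms[k] := e ▸ hM
  obtain ⟨f1, f2⟩ := hfix _ (List.getElem_mem hk)
  refine ⟨n, ⟨⟨hn, p.mem_Ht.mpr ?_⟩, mem_centralizer_singleton_iff.mpr ?_⟩, hM'⟩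
  · exact mul_inv_eq_iff_eq_mul.mp ((hM'.ev 68).trans (congrArg p.ev f1))
  · exact mul_inv_eq_iff_eq_mul.mp ((hM'.ev r).trans (congrArg p.ev f2))

theorem realised {Ms : List (List ℕ)} {st T n r : ℕ} (hMs : Ms.length = 2)
    (hg : ∀ k < Ms.length, ∃ g ∈ p.Mt ⊓ centralizer ({p.ev r} : Set G), p.Maps g (Ms.getD k idM))
    (hd : derived Ms st T n = true) :
    ∀ j < n, ∃ g ∈ p.Mt ⊓ centralizer ({p.ev r} : Set G), p.Maps g (row T j) := by
  simp only [derived, Bool.and_eq_true, beq_iff_eq, List.all_eq_true, List.mem_range, Bool.or_eq_true,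
    decide_eq_true_eq] at hd
  intro j
  induction j using Nat.strong_induction_on with
  | _ j ih =>
    intro hj
    rcases hd.2 j hj with h0 | ⟨hlt, he⟩
    · refine ⟨1, one_mem _, ?_⟩
      rw [h0, hd.1]
      exact p.maps_one
    · obtain ⟨a, ha, hA⟩ := ih _ hlt (hlt.trans hj)
      obtain ⟨b, hb, hB⟩ := hg (ent st 16 j % 2) (by rw [hMs]; exact Nat.mod_lt _ two_pos)
      refine ⟨b * a, mul_mem hb ha, fun i hi => ?_⟩
      rw [row_getD _ _ hi, ← he i hi, ← hB.ev, ← row_getD T _ hi, ← hA i hi]
      group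

theorem table_full {Ms : List (List ℕ)} {st T o n r : ℕ} (hMs : Ms.length = 2)
    (hg : ∀ k < Ms.length, ∃ g ∈ p.Mt ⊓ centralizer ({p.ev r} : Set G), p.Maps g (Ms.getD k idM))
    (hd : derived Ms st T n = true) (hi : distinct T o n = true) (hr : r < 2048)
    (hcard : Nat.card ↥(p.Mt ⊓ centralizer ({p.ev r} : Set G)) = n * 2048) :
    (∀ m ∈ p.Mt ⊓ centralizer ({p.ev r} : Set G), ∃ j < n, p.Maps m (row T j)) ∧
      ∀ i < n, ∀ j < n, ent T 121 i = ent T 121 j → i = j := by
  classical
  simp only [distinct, Bool.and_eq_true, List.all_eq_true, List.mem_range, decide_eq_true_eq, Bool.or_eq_true,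
    beq_iff_eq] at hi
  have hmono : ∀ j < n, ∀ i < j, ent T 121 (ent o 16 i) < ent T 121 (ent o 16 j) := by
    intro j
    induction j with
    | zero => intro _ i hi; exact absurd hi (Nat.not_lt_zero i)
    | succ j ih =>
      intro hj i hij
      have h := (hi (j + 1) hj).2.resolve_left (Nat.succ_ne_zero j)
      rw [Nat.add_sub_cancel] at h
      rcases Nat.lt_succ_iff_lt_or_eq.mp hij with h' | h'
      · exact (ih (by omega) i h').trans h
      · exact h' ▸ h
  have hinjT : ∀ i < n, ∀ j < n, ent T 121 i = ent T 121 j → i = j := by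
    let f : Fin n → Fin n := fun j => ⟨ent o 16 j, (hi j j.2).1⟩
    have hf : Function.Injective f := fun a b e => by
      have e' : ent o 16 a = ent o 16 b := congrArg Fin.val e
      rcases lt_trichotomy (a : ℕ) b with h | h | h
      · exact absurd (hmono b b.2 a h) (by rw [e']; exact lt_irrefl _)
      · exact Fin.ext h
      · exact absurd (hmono a a.2 b h) (by rw [e']; exact lt_irrefl _)
    have hs := Finite.injective_iff_surjective.mp hf
    intro i hi' j hj' e
    obtain ⟨a, ha⟩ := hs ⟨i, hi'⟩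
    obtain ⟨b, hb⟩ := hs ⟨j, hj'⟩
    have ea : ent o 16 a = i := congrArg Fin.val ha
    have eb : ent o 16 b = j := congrArg Fin.val hb
    rcases lt_trichotomy (a : ℕ) b with h | h | h
    · exact absurd (hmono b b.2 a h) (by rw [ea, eb, e]; exact lt_irrefl _)
    · rw [← ea, ← eb, h]
    · exact absurd (hmono a a.2 b h) (by rw [ea, eb, e]; exact lt_irrefl _)
  refine ⟨?_, hinjT⟩
  have hR := p.realised hMs hg hd
  choose g hgm hgM using hR
  let K := p.Mt ⊓ centralizer ({p.ev r} : Set G)
  let A := p.Ag.subgroupOf K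
  have hAK : p.Ag ≤ K := fun a ha => ⟨p.Ag_Mt ha, mem_centralizer_singleton_iff.mpr (p.Ag_comm ha (p.ev_mem hr))⟩
  have hq : Nat.card (↥K ⧸ A) = n := by
    have h := Subgroup.card_eq_card_quotient_mul_card_subgroup A
    rw [hcard, Nat.card_congr (Subgroup.subgroupOfEquivOfLe hAK).toEquiv, p.card_Ag] at h
    omega
  let F : Fin n → ↥K ⧸ A := fun j => QuotientGroup.mk ⟨g j j.2, hgm j j.2⟩
  have hF : Function.Injective F := fun a b e => by
    have h := QuotientGroup.eq.mp e
    rw [mem_subgroupOf] at h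
    refine Fin.ext (hinjT a a.2 b b.2 (digits_ext (Nat.mod_lt _ (by norm_num)) (Nat.mod_lt _ (by norm_num))
      fun i hi' => ?_))
    rw [← row_getD _ _ hi', ← row_getD _ _ hi']
    obtain ⟨c, hc, e'⟩ : ∃ c ∈ p.Ag, g b b.2 = g a a.2 * c := ⟨_, h, by simp⟩
    have h1 := hgM a a.2 i hi'
    have h2 := hgM b b.2 i hi'
    rw [e', show g a a.2 * c * p.gen i * (g a a.2 * c)⁻¹ = g a a.2 * (c * p.gen i * c⁻¹) * (g a a.2)⁻¹ by group,
      (p.Ag_comm hc (p.gen_mem hi')).eq, mul_inv_cancel_right, h1] at h2
    have lt : ∀ j, (row T j).getD i 0 < 2048 := fun j => by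
      rw [row_getD _ _ hi']
      exact Nat.mod_lt _ (by norm_num)
    exact p.ev_inj (lt _) (lt _) h2
  haveI : Fintype (↥K ⧸ A) := Fintype.ofFinite _
  have hsur : Function.Surjective F := by
    refine ((Fintype.bijective_iff_injective_and_card F).mpr ⟨hF, ?_⟩).surjective
    rw [Fintype.card_fin, ← Nat.card_eq_fintype_card, hq]
  intro m hm
  obtain ⟨j, hj⟩ := hsur (QuotientGroup.mk ⟨m, hm⟩)
  have h := QuotientGroup.eq.mp hj
  rw [mem_subgroupOf] at h
  refine ⟨j, j.2, fun i hi' => ?_⟩
  obtain ⟨c, hc, e'⟩ : ∃ c ∈ p.Ag, m = g j j.2 * c := ⟨_, h, by simp⟩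
  rw [e', show g j j.2 * c * p.gen i * (g j j.2 * c)⁻¹ = g j j.2 * (c * p.gen i * c⁻¹) * (g j j.2)⁻¹ by group,
    (p.Ag_comm hc (p.gen_mem hi')).eq, mul_inv_cancel_right, hgM j j.2 i hi']

/-- The stabilizer of 1 is the first table. -/
theorem four_table :
    (∀ m ∈ p.Mt ⊓ centralizer ({p.ev 1} : Set G), ∃ j < 384, p.Maps m (row lFour j)) ∧
      ∀ i < 384, ∀ j < 384, ent lFour 121 i = ent lFour 121 j → i = j := by
  obtain ⟨hg, -, hm, -, -, -, hf, -, -⟩ := gens_ok
  refine p.table_full (st := stepsFour) (o := ordFour) (Ms := mFour) rfl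
    (fun k hk => p.maps_of_gens (gs := gFour) (fun g h => (hg g (by simp [h])).1) hm hf hk)
    four_derived four_distinct (by norm_num) ?_
  rw [p.four_orbit.2.2]

/-- The stabilizer of 4 is the second table. -/
theorem six_table :
    (∀ m ∈ p.Mt ⊓ centralizer ({p.ev 4} : Set G), ∃ j < 720, p.Maps m (row lSix j)) ∧
      ∀ i < 720, ∀ j < 720, ent lSix 121 i = ent lSix 121 j → i = j := by
  obtain ⟨hg, -, -, hm, -, -, -, hf, -⟩ := gens_ok
  refine p.table_full (st := stepsSix) (o := ordSix) (Ms := mSix) rfl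
    (fun k hk => p.maps_of_gens (gs := gSix) (fun g h => (hg g (by simp [h])).1) hm hf hk)
    six_derived six_distinct (by norm_num) ?_
  rw [p.six_orbit.2]

theorem maps_klap {n : G} {T j : ℕ} (h : p.Maps n (row T j)) (x : ℕ) :
    n * p.ev x * n⁻¹ = p.ev (klap (ent T 121 j) x) := by
  rw [klap_eq]
  exact h.ev x

end Fr

end Cfsg.Lib.ConwayType
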