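import Cfsg.Agent.ConwayType.Locals.TriData
import Cfsg.Agent.ConwayType.Locals.Alt9.Small

/-!
Evaluated checks for the centralizer of an element of order three.
-/

set_option autoImplicit false
set_option maxRecDepth 100000
set_option maxHeartbeats 1000000
set_option Elab.async false

namespace Cfsg.Lib.ConwayType.Tri

open Cfsg.Lib.Golay Cfsg.Lib.ConwayType.Local Cfsg.Lib.ConwayType.Code Cfsg.Lib.ConwayType.Dod
open Cfsg.Lib.PermCert (PP)

/-- The vector of a subset of eight points. -/
def psi (f : Fin 8 → Bool) : ℕ :=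
  (List.finRange 8).foldr (fun i a => (bif f i then vPt.getD i.val 0 else 0) ^^^ a) 0

/-- A subset labelling a vector of the section. -/
def sub (w : ℕ) (i : Fin 8) : Bool :=
  (((sPt.find? fun e => e.1 == w).map Prod.snd).getD 0).testBit i.val

/-- An image in a list of values. -/
def img8 (l : List (Fin 8)) (i : Fin 8) : Fin 8 := l.getD i.val 0

/-- The fixed coordinate with a given image of the first point. -/
def atPt (j : Fin 8) : ℕ := fix8.getD (((tr8.map fun l => img8 l 0).idxOf j)) 0

/-- The list of words composed. -/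
def wImg (w : List ℕ) (i : Fin 8) : Fin 8 := w.foldr (fun k j => img8 (pG.getD k []) j) i

/-- A matrix of a group of matrices. -/
def idx3 (k : ℕ) : List ℕ := if k = 0 then idM else if k = 1 then mW68 else comp mW68 mW68

theorem gens_ok :
    (∀ g ∈ [gW, gT, gK1, gK2, gN] ++ gR ++ gPair, preserves g = true ∧
      (matOf g).all (fun y => decide (y < 2048)) = true) ∧
    mW = matOf gW ∧ mT = matOf gT ∧ mK1 = matOf gK1 ∧ mK2 = matOf gK2 ∧ mN = matOf gN ∧
    mR = gR.map matOf ∧ mPair = gPair.map matOf ∧
    (∀ M ∈ mPair, lap M 68 = 68 ∧ lap M 44 = 44) ∧ (∀ M ∈ mR, lap M 68 = 68) := by decide +kernel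

theorem w_facts : comp mW (comp mW mW) = idM ∧ comp mT mT = idM ∧ comp mT (comp mW mT) = comp mW mW ∧
    lap mW 1 = 2 ∧ lap mW 2 = 3 ∧ lap mT 1 = 1 ∧ lap mT 2 = 3 ∧ lap mT 3 = 2 ∧
    (∀ M ∈ [mK1, mK2], comp M mW = comp mW M ∧ comp M mT = comp mT M ∧ lap M 1 = 1 ∧ lap M 2 = 2) ∧
    comp mN mW = comp mW68 mN ∧ lap mN e1 = 68 ∧ lap mN e2 = 44 ∧ e1 ∈ fix8 ∧ e2 ∈ fix8 := by decide +kernel

theorem fix_facts : (∀ x < 2048, lap mW x = x → fix8.contains x = true) ∧
    ∀ x ∈ fix8, x < 2048 ∧ lap mW x = x ∧ lap mT x = x ∧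
      (x ≠ 0 → plain x = true) ∧ (x ≠ 0 → lap mK1 x ≠ x ∨ lap mK2 x ≠ x) := by decide +kernel

theorem six_facts : (∀ y < 2048, lap mW68 y = y → y ≠ 0 → y ≠ 68 → six.contains y = true) ∧
    six.length = mR.length ∧ ∀ i < six.length, lap (mR.getD i idM) 44 = six.getD i 0 := by decide +kernel

theorem pair_count : ((List.range 2048).filter fun x => plain x && plain (x ^^^ 68)).length = 792 ∧
    plain 44 = true ∧ plain (44 ^^^ 68) = true := by decide +kernel

theorem pair_derived : derived mPair stepsPair lPair 240 = true := by decide +kernel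

theorem pair_distinct : distinct lPair ordPair 240 = true := by decide +kernel

/-- The matrices commuting with the moved element. -/
theorem commuting : ((List.range 6).all fun i => (List.range 240).all fun j =>
    !(comp (comp (mR.getD i idM) (row lPair j)) mW68 == comp mW68 (comp (mR.getD i idM) (row lPair j))) ||
      cTri.contains (comp (mR.getD i idM) (row lPair j))) = true := by decide +kernel

/-- Each is a power of the moved element up to an element fixing the moved pair. -/
theorem power_part : (cTri.all fun M => [0, 1, 2].any fun k =>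
    lap M (lap mN 1) == lap (idx3 k) (lap mN 1) && lap M (lap mN 2) == lap (idx3 k) (lap mN 2)) = true := by
  decide +kernel

/-- Only the identity acts as a radical element. -/
theorem radical_part : (cTri.all fun M => M == idM || (List.range 8).any fun i =>
    !([0, 1, 2, 3].any fun u => lap M (lap mN (2 ^ i)) == lap mN (2 ^ i) ^^^ lap mN u)) = true := by
  decide +kernel

theorem psi_facts : (∀ w ∈ W, psi (sub w) = w ∧ (Finset.univ.filter fun i => sub w i = true).card % 2 = 0) ∧
    ∀ f : Fin 8 → Bool, psi f = psi (fun i => !f i) ∧ ((Finset.univ.filter fun i => f i = true).card % 2 = 0 →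
      psi f ∈ W ∧ ((∀ i, sub (psi f) i = f i) ∨ ∀ i, sub (psi f) i = !f i)) := by decide +kernel

theorem pG_ok : ∀ k < g2.length, (∀ i j, img8 (pG.getD k []) i = img8 (pG.getD k []) j → i = j) ∧
    ∀ w ∈ W, nr (wact g2 [k] w) = (List.finRange 8).foldr (fun i a =>
        (bif sub w i then vPt.getD (img8 (pG.getD k []) i).val 0 else 0) ^^^ a) 0 := by
  decide +kernel

theorem moore_ok : wMoore.length = 6 ∧ (∀ l ∈ wMoore, ∀ k ∈ l, k < g2.length) ∧
    ∀ a : Fin 6, ∀ i, wImg (wMoore.getD a.val []) i = img8 (([[1, 2, 0, 3, 4, 5, 6, 7], [1, 0, 3, 2, 4, 5, 6, 7],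
      [1, 0, 2, 4, 3, 5, 6, 7], [1, 0, 2, 3, 5, 4, 6, 7], [1, 0, 2, 3, 4, 6, 5, 7], [1, 0, 2, 3, 4, 5, 7, 6]] :
        List (List (Fin 8))).getD a.val []) i := by decide +kernel

/-- The translations by fixed coordinates. -/
theorem tr_ok : (∀ x ∈ fix8, ∀ w ∈ W,
    nr (act (tWord (x / 256)) w) = (List.finRange 8).foldr (fun i a =>
      (bif sub w i then vPt.getD (img8 (tr8.getD (fix8.idxOf x) []) i).val 0 else 0) ^^^ a) 0) ∧
    (∀ j : Fin 8, atPt j ∈ fix8 ∧ img8 (tr8.getD (fix8.idxOf (atPt j)) []) 0 = j) ∧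
    (∀ i j : Fin 8, img8 (tr8.getD (fix8.idxOf (atPt j)) []) i = img8 (tr8.getD (fix8.idxOf (atPt i)) []) j) ∧
    (∀ i, img8 (tr8.getD (fix8.idxOf e1) []) i = img8 [1, 0, 3, 2, 5, 4, 7, 6] i) ∧
    ∀ x ∈ fix8, (∀ i j, img8 (tr8.getD (fix8.idxOf x) []) i = img8 (tr8.getD (fix8.idxOf x) []) j → i = j) ∧
      (∀ y ∈ fix8, img8 (tr8.getD (fix8.idxOf x) []) 0 = img8 (tr8.getD (fix8.idxOf y) []) 0 → x = y) := by
  decide +kernel

/-- The permutations commuting with the fixed-point-free double transposition, by values on representatives. -/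
def pairFun (a b c d : Fin 8) : Fin 8 → Fin 8 :=
  fun i => (fun j : Fin 8 => bif i.val % 2 == 0 then j else img8 [1, 0, 3, 2, 5, 4, 7, 6] j)
    ((([a, b, c, d] : List (Fin 8)).getD (i.val / 2) 0))

/-- The value lists of the permutations commuting with the double transposition. -/
def pairPerms : List (List (Fin 8)) :=
  (List.finRange 8).flatMap fun a => ((List.finRange 8).filter fun b => b.val / 2 != a.val / 2).flatMap fun b =>
    ((List.finRange 8).filter fun c => c.val / 2 != a.val / 2 && c.val / 2 != b.val / 2).flatMap fun c =>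
      ((List.finRange 8).filter fun d => d.val / 2 != a.val / 2 && d.val / 2 != b.val / 2 && d.val / 2 != c.val / 2).map
        fun d => (List.finRange 8).map (pairFun a b c d)

/-- The transposition of a pair. -/
def pairSwap (k : Fin 4) : Equiv.Perm (Fin 8) :=
  Equiv.swap ⟨2 * k.val, by omega⟩ ⟨2 * k.val + 1, by omega⟩

/-- An element of order three centralizing the double transposition centralizes no even four-group with it. -/
theorem three_no_four : (pairPerms.all fun c =>
    ((List.finRange 8).all fun i => img8 c i == i) || !((List.finRange 8).all fun i => img8 c (img8 c (img8 c i)) == i) ||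
      pairPerms.all fun v =>
        !((List.finRange 8).all fun i => img8 v (img8 v i) == i && img8 c (img8 v i) == img8 v (img8 c i)) ||
          ((List.finRange 8).all fun i => img8 v i == i) ||
          ((List.finRange 8).all fun i => img8 v i == img8 [1, 0, 3, 2, 5, 4, 7, 6] i) ||
          (List.finRange 4).any fun k => ((List.finRange 8).all fun i => img8 v i == pairSwap k i) ||
            (List.finRange 8).all fun i => img8 v i == img8 [1, 0, 3, 2, 5, 4, 7, 6] (pairSwap k i)) = true := by
  decide +kernel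

end Cfsg.Lib.ConwayType.Tri
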