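import Cfsg.Agent.ConwayType.Locals.Block
import Mathlib.GroupTheory.Perm.Cycle.Type

/-!
The code is weakly closed for the class in the centralizer of a dodecad.
-/

set_option autoImplicit false
set_option maxRecDepth 100000
set_option maxHeartbeats 1000000
set_option linter.unusedSectionVars false
set_option linter.style.haveILetI false

namespace Cfsg.Lib.ConwayType

open Subgroup Cfsg.Lib.ConwayType.Code Cfsg.Lib.ConwayType.Local

universe u

variable {G : Type u} [Group G] [Finite G] {z : G}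

namespace Dod

theorem uFour_lt : ∀ u ∈ uFour, u < 2048 := by decide +kernel

theorem uFour_len : uFour.length = 32 := by decide +kernel

theorem word_ok : ∀ w ∈ xSix, (∀ k ∈ w, k < mT.length) ∧ oSix (lap (wMat w) 4) = true := by decide +kernel

theorem mT_len : ∀ M ∈ mT, M.length = 11 := by decide +kernel

theorem mT_lt : ∀ M ∈ mT, M.all (fun y => decide (y < 2048)) = true := by decide +kernel

theorem wMat_len : ∀ w, (wMat w).length = 11
  | [] => rfl
  | k :: l => by
    show (comp (mT.getD k idM) (wMat l)).length = 11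
    rw [comp, List.length_map, wMat_len l]

theorem wMat_lt : ∀ w : List ℕ, (∀ k ∈ w, k < mT.length) → ∀ x, lap (wMat w) x < 2048 := by
  intro w hw
  refine lap_lt ?_
  induction w with
  | nil => exact (by decide : idM.all (fun y => decide (y < 2048)) = true)
  | cons k l ih =>
    show (comp (mT.getD k idM) (wMat l)).all _ = true
    rw [comp, List.all_eq_true]
    intro v hv
    obtain ⟨a, -, rfl⟩ := List.mem_map.mp hv
    rw [decide_eq_true_eq, List.getD_eq_getElem _ _ (hw k List.mem_cons_self)]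
    exact lap_lt (mT_lt _ (List.getElem_mem _)) a

end Dod

namespace Fr

open Dod

variable (p : Fr z)

theorem word_elem : ∀ w : List ℕ, (∀ k ∈ w, k < mT.length) → ∃ m ∈ p.Mt, p.Maps m (wMat w)
  | [], _ => ⟨1, one_mem _, p.maps_one⟩
  | k :: l, h => by
    obtain ⟨m, hm, hM⟩ := word_elem l fun j hj => h j (List.mem_cons_of_mem _ hj)
    obtain ⟨n, hn, hN⟩ := p.maps_gT k (h k List.mem_cons_self)
    have hk := h k List.mem_cons_self
    refine ⟨n * m, mul_mem hn hm, ?_⟩
    have := hN.mul hM (wMat_len l)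
    rwa [List.getD_eq_getElem _ _ hk, ← List.getD_eq_getElem _ idM hk] at this

/-- Eight independent elements give eight rows of a table. -/
theorem count_fixed {T n r : ℕ} {U F : List ℕ} {y : G} {j : ℕ}
    (htab : ∀ m ∈ p.Mt ⊓ centralizer ({p.ev r} : Set G), ∃ i < n, p.Maps m (row T i))
    (hF : (List.range n).map (fun i => fixMask U (ent T 121 i)) = F) (hU : ∀ u ∈ U, u < 2048)
    (hy : p.Maps y (row T j)) (S : Finset G) (h8 : 8 ≤ S.card)
    (hS : ∀ v ∈ S, v ∈ p.Mt ⊓ centralizer ({p.ev r} : Set G) ∧ ∀ a ∈ p.Ag, Commute a y → Commute v a)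
    (hinj : ∀ v ∈ S, ∀ v' ∈ S, v⁻¹ * v' ∈ p.Ag → v = v') :
    8 ≤ F.countP fun m => m &&& fixMask U (ent T 121 j) == fixMask U (ent T 121 j) := by
  classical
  rw [← hF, List.countP_map, List.countP_eq_length_filter]
  obtain ⟨l, hl⟩ : ∃ l, l = (List.range n).filter
      ((fun m => m &&& fixMask U (ent T 121 j) == fixMask U (ent T 121 j)) ∘ fun i => fixMask U (ent T 121 i)) :=
    ⟨_, rfl⟩
  rw [← hl]
  have ex : ∀ v, ∃ i, v ∈ S → i < n ∧ p.Maps v (row T i) := fun v => by
    by_cases hv : v ∈ S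
    · obtain ⟨i, hi, hM⟩ := htab v (hS v hv).1; exact ⟨i, fun _ => ⟨hi, hM⟩⟩
    · exact ⟨0, fun h => absurd h hv⟩
  choose f hf using ex
  have hsub : S.image f ⊆ l.toFinset := fun i hi => by
    obtain ⟨v, hv, rfl⟩ := Finset.mem_image.mp hi
    rw [List.mem_toFinset, hl, List.mem_filter]
    refine ⟨List.mem_range.mpr (hf v hv).1, ?_⟩
    simp only [Function.comp_apply, beq_iff_eq]
    refine fixMask_sub fun u hu hfix => ?_
    have hc : Commute y (p.ev u) := mul_inv_eq_iff_eq_mul.mp ((p.maps_klap hy u).trans (congrArg p.ev hfix))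
    have hv' := (hS v hv).2 _ (p.ev_mem (hU u hu)) hc.symm
    have e := p.maps_klap (hf v hv).2 u
    rw [hv'.eq, mul_inv_cancel_right] at e
    refine (p.ev_inj (hU u hu) ?_ e).symm
    rw [klap_eq]
    exact lap_lt (by simp [ent, Nat.mod_lt]) u
  have hfi : Set.InjOn f ↑S := fun v hv v' hv' e => by
    refine hinj v hv v' hv' (p.same_action (hf v' hv').2 (hf v hv).2 fun i _ => ?_)
    rw [e]
  calc 8 ≤ S.card := h8
    _ = (S.image f).card := (Finset.card_image_of_injOn hfi).symm
    _ ≤ l.toFinset.card := Finset.card_le_card hsub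
    _ ≤ l.length := List.toFinset_card_le l

theorem row_trivial {n : G} {T : ℕ} (hT : row T 0 = idM) (h : p.Maps n (row T 0)) : n ∈ p.Ag := by
  have := p.same_action (n := n) (m := 1) (A := row T 0) (B := idM) h p.maps_one fun i _ => by rw [hT]
  simpa using this

/-- An involution fixing the octad 4 with a large fixed block lies in the code. -/
theorem six_case {h : G} (hh : h ∈ p.Ht) {x : ℕ} (hx : x < 2048) (hS : sLit.testBit x = true)
    (hy : h * p.ev x * h⁻¹ ∈ p.Mt) (hnA : h * p.ev x * h⁻¹ ∉ p.Ag) (hc : Commute (h * p.ev x * h⁻¹) (p.ev 4))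
    (h16 : ∀ j < 720, p.Maps (h * p.ev x * h⁻¹) (row lSix j) →
      16 ≤ uFour.countP fun u => klap (ent lSix 121 j) u == u) : False := by
  obtain ⟨j, hj, hM⟩ := p.six_table.1 _ ⟨hy, mem_centralizer_singleton_iff.mpr hc⟩
  obtain ⟨S, h8, hS', hinj⟩ := p.eight_elements hh hx hS (w := 4) (by norm_num) (block_ok 4 (by norm_num) (by norm_num))
    hy hnA hc
  have hcount := p.count_fixed p.six_table.1 six_masks uFour_lt hM S h8 hS' hinj
  have hgood := six_good
  rw [List.all_eq_true] at hgood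
  have hF : fSix[j]? = some (fixMask uFour (ent lSix 121 j)) := by
    rw [← six_masks, List.getElem?_map, List.getElem?_range hj]; rfl
  have hmem : (j, fixMask uFour (ent lSix 121 j)) ∈ (List.range 720).zip fSix := by
    rw [List.mem_iff_getElem?]
    exact ⟨j, by rw [List.getElem?_zip_eq_some]; exact ⟨List.getElem?_range hj, hF⟩⟩
  have := hgood _ hmem
  simp only [Bool.or_eq_true, beq_iff_eq, decide_eq_true_eq] at this
  rcases this with (h0 | hlt) | hlt
  · subst h0
    refine hnA (p.row_trivial ?_ hM)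
    have := six_derived
    simp only [derived, Bool.and_eq_true, beq_iff_eq] at this
    exact this.1
  · have h := h16 j hj hM
    have hc' := countP_fixMask uFour (ent lSix 121 j)
    rw [uFour_len] at hc'
    omega
  · omega

/-- A fused element fixing 1 lies in the code. -/
theorem four_case {h : G} (hh : h ∈ p.Ht) {x : ℕ} (hx : x < 2048) (hS : sLit.testBit x = true)
    (hy : h * p.ev x * h⁻¹ ∈ p.Mt) (hnA : h * p.ev x * h⁻¹ ∉ p.Ag) (hc : Commute (h * p.ev x * h⁻¹) (p.ev 1)) :
    False := by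
  obtain ⟨y, hydef⟩ : ∃ y, y = h * p.ev x * h⁻¹ := ⟨_, rfl⟩
  obtain ⟨j, hj, hM⟩ := p.four_table.1 _ ⟨hydef ▸ hy, mem_centralizer_singleton_iff.mpr (hydef ▸ hc : Commute y (p.ev 1))⟩
  obtain ⟨S, h8, hS', hinj⟩ := p.eight_elements hh hx hS (w := 1) (by norm_num) (block_ok 1 (by norm_num) (by norm_num))
    hy hnA hc
  rw [← hydef] at hS'
  have hcount := p.count_fixed p.four_table.1 four_masks (fun u hu => by
    have := List.mem_range.mp hu; omega) hM S h8 hS' hinj
  have hgood := four_good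
  rw [List.all_eq_true] at hgood
  have hF : fFour[j]? = some (fixMask uOne (ent lFour 121 j)) := by
    rw [← four_masks, List.getElem?_map, List.getElem?_range hj]; rfl
  have hmem : (j, fixMask uOne (ent lFour 121 j)) ∈ (List.range 384).zip fFour := by
    rw [List.mem_iff_getElem?]
    exact ⟨j, by rw [List.getElem?_zip_eq_some]; exact ⟨List.getElem?_range hj, hF⟩⟩
  have := hgood _ hmem
  simp only [Bool.or_eq_true, beq_iff_eq, decide_eq_true_eq, Bool.not_eq_true', List.any_eq_true, Bool.and_eq_true] at this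
  have hyy : y * y = 1 := by
    rw [hydef, show h * p.ev x * h⁻¹ * (h * p.ev x * h⁻¹) = h * (p.ev x * p.ev x) * h⁻¹ by group, p.ev_sq]; group
  have hlt : ∀ v, klap (ent lFour 121 j) v < 2048 := fun v => by
    rw [klap_eq]; exact lap_lt (by simp [ent, Nat.mod_lt]) v
  rcases this with ((h0 | hinv) | hlt') | ⟨w, hw, hfix, h16⟩
  · subst h0
    refine hnA ?_
    rw [← hydef]
    refine p.row_trivial ?_ hM
    have := four_derived
    simp only [derived, Bool.and_eq_true, beq_iff_eq] at this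
    exact this.1
  · rw [List.all_eq_false] at hinv
    obtain ⟨v, hv, hne⟩ := hinv
    have hv' : v < 2048 := (by decide : ∀ v ∈ [1, 2, 4, 8, 16, 32, 64, 128, 256, 512, 1024], v < 2048) v hv
    simp only [beq_iff_eq] at hne
    refine hne (p.ev_inj (hlt _) hv' ?_)
    rw [← p.maps_klap hM, ← p.maps_klap hM, show y * (y * p.ev v * y⁻¹) * y⁻¹ = (y * y) * p.ev v * (y * y)⁻¹ by group,
      hyy]
    group
  · omega
  · obtain ⟨hwk, hox⟩ := word_ok w hw
    simp only [oSix, Bool.and_eq_true, decide_eq_true_eq] at hox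
    obtain ⟨m, hm, hMm⟩ := p.word_elem w hwk
    have hc4 : Commute (m⁻¹ * h * p.ev x * (m⁻¹ * h)⁻¹) (p.ev 4) := by
      have h1 : Commute y (p.ev (lap (wMat w) 4)) :=
        mul_inv_eq_iff_eq_mul.mp ((p.maps_klap hM _).trans (congrArg p.ev hfix))
      have h2 := (Commute.conj_iff m⁻¹).mpr h1
      rw [← hMm.ev, show m⁻¹ * (m * p.ev 4 * m⁻¹) * m⁻¹⁻¹ = p.ev 4 by group] at h2
      rwa [show m⁻¹ * h * p.ev x * (m⁻¹ * h)⁻¹ = m⁻¹ * y * m⁻¹⁻¹ by rw [hydef]; group]
    have hconj : m⁻¹ * h * p.ev x * (m⁻¹ * h)⁻¹ = m⁻¹ * y * m := by rw [hydef]; group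
    refine p.six_case (mul_mem (inv_mem hm).2 hh) hx hS ?_ ?_ hc4 fun i hi hMi => ?_
    · rw [hconj]
      exact mul_mem (mul_mem (inv_mem hm) (hydef ▸ hy)) hm
    · rw [hconj]
      intro hA
      refine hnA ?_
      rw [← hydef, show y = m * (m⁻¹ * y * m) * m⁻¹ by group]
      exact (Subgroup.mem_normalizer_iff.mp hm.1 _).mp hA
    · refine h16.trans (le_of_eq ?_)
      rw [List.countP_map]
      refine List.countP_congr fun u hu => ?_
      have hu' := uFour_lt u hu
      simp only [Function.comp_apply, beq_iff_eq]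
      rw [hconj] at hMi
      have e1 := p.maps_klap hM (lap (wMat w) u)
      have e2 := p.maps_klap hMi u
      rw [← hMm.ev] at e1
      rw [show m⁻¹ * y * m * p.ev u * (m⁻¹ * y * m)⁻¹ = m⁻¹ * (y * (m * p.ev u * m⁻¹) * y⁻¹) * m by group, e1] at e2
      constructor
      · intro hf
        rw [hf, ← hMm.ev, show m⁻¹ * (m * p.ev u * m⁻¹) * m = p.ev u by group] at e2
        refine (p.ev_inj hu' ?_ e2).symm
        rw [klap_eq]; exact lap_lt (by simp [ent, Nat.mod_lt]) u
      · intro hf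
        rw [hf] at e2
        have e3 : p.ev (klap (ent lFour 121 j) (lap (wMat w) u)) = p.ev (lap (wMat w) u) := by
          calc p.ev (klap (ent lFour 121 j) (lap (wMat w) u))
              = m * (m⁻¹ * p.ev (klap (ent lFour 121 j) (lap (wMat w) u)) * m) * m⁻¹ := by group
            _ = _ := by rw [e2, hMm.ev]
        exact p.ev_inj (hlt _) (wMat_lt w hwk u) e3

/-- The code contains every element of the normalizer fused to its class. -/
theorem weak_closed {h : G} (hh : h ∈ p.Ht) {x : ℕ} (hx : x < 2048) (hS : sLit.testBit x = true)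
    (hy : h * p.ev x * h⁻¹ ∈ p.Mt) : h * p.ev x * h⁻¹ ∈ p.Ag := by
  classical
  by_contra hnA
  obtain ⟨y, hydef⟩ : ∃ y, y = h * p.ev x * h⁻¹ := ⟨_, rfl⟩
  have hyy : y * y = 1 := by
    rw [hydef, show h * p.ev x * h⁻¹ * (h * p.ev x * h⁻¹) = h * (p.ev x * p.ev x) * h⁻¹ by group, p.ev_sq]; group
  obtain ⟨l, hl⟩ : ∃ l, l = ((List.range 2048).filter oFour).toFinset := ⟨_, rfl⟩
  have mem_l : ∀ u, u ∈ l ↔ u < 2048 ∧ oFour u = true := fun u => by
    rw [hl, List.mem_toFinset, List.mem_filter, List.mem_range]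
  have hex : ∀ u : ↥l, ∃ u' : ↥l, y * p.ev u * y⁻¹ = p.ev u' := fun u => by
    obtain ⟨hu, hO⟩ := (mem_l u).mp u.2
    obtain ⟨u', hu', e, c1, c2⟩ := p.Mt_conj (hydef ▸ hy) hu
    refine ⟨⟨u', (mem_l u').mpr ⟨hu', ?_⟩⟩, e⟩
    simp only [oFour, Bool.and_eq_true, decide_eq_true_eq, Bool.not_eq_true'] at hO ⊢
    exact ⟨⟨hu', c1 ▸ hO.1.2⟩, c2 ▸ hO.2⟩
  choose f hf using hex
  have hinv : Function.Involutive f := fun u => by
    refine Subtype.ext (p.ev_inj ((mem_l _).mp (f (f u)).2).1 ((mem_l _).mp u.2).1 ?_)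
    rw [← hf, ← hf, show y * (y * p.ev u * y⁻¹) * y⁻¹ = (y * y) * p.ev u * (y * y)⁻¹ by group, hyy]
    group
  haveI : Fact (Nat.Prime 2) := ⟨Nat.prime_two⟩
  obtain ⟨u, hu⟩ := Equiv.Perm.exists_fixed_point_of_prime (p := 2) (n := 1) (σ := hinv.toPerm f) (by
    rw [Fintype.card_coe, hl, List.toFinset_card_of_nodup (List.nodup_range.filter _), counts.1]
    norm_num) (by
    ext u
    simp [pow_two, hinv u])
  obtain ⟨hu', hO⟩ := (mem_l u).mp u.2
  obtain ⟨m, hm, em⟩ := p.four_orbit.2.1 u hu' hO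
  have hfix : Commute y (p.ev u) := mul_inv_eq_iff_eq_mul.mp (by
    rw [hf u]
    exact congrArg (fun v : ↥l => p.ev v) hu)
  have hconj : m⁻¹ * h * p.ev x * (m⁻¹ * h)⁻¹ = m⁻¹ * y * m := by rw [hydef]; group
  refine p.four_case (mul_mem (inv_mem hm).2 hh) hx hS ?_ ?_ ?_
  · rw [hconj]
    exact mul_mem (mul_mem (inv_mem hm) (hydef ▸ hy)) hm
  · rw [hconj]
    intro hA
    refine hnA ?_
    rw [← hydef, show y = m * (m⁻¹ * y * m) * m⁻¹ by group]
    exact (Subgroup.mem_normalizer_iff.mp hm.1 _).mp hA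
  · rw [hconj]
    have h2 := (Commute.conj_iff m⁻¹).mpr hfix
    rwa [← em, show m⁻¹ * (m * p.ev 1 * m⁻¹) * m⁻¹⁻¹ = p.ev 1 by group, inv_inv] at h2

end Fr

end Cfsg.Lib.ConwayType
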